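import Groth.Agent.Lib.ModM1.Pull
import Groth.Prelude.Def_Formal
import Mathlib.CategoryTheory.Adjunction.Additive
import Mathlib.CategoryTheory.Limits.Preserves.Shapes.Kernels

/-!
Multiplication by elements of the base on modules, and systems of quotients by powers of an ideal.
-/

universe u

open CategoryTheory CategoryTheory.Limits AlgebraicGeometry Opposite

namespace Groth.Agent.FormalH7

variable {A : Type u} [CommRing A] {X : Scheme.{u}} [X.Over (Spec (CommRingCat.of A))]

/-- The multiplier on an open. -/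
noncomputable abbrev mult (X : Scheme.{u}) [X.Over (Spec (CommRingCat.of A))] (a : A) (U : X.Opens) : Γ(X, U) :=
  X.presheaf.map (homOfLE (le_top : U ≤ ⊤)).op (Coh.toGlobal (X ↘ Spec (CommRingCat.of A)) a)

theorem smulMod_app (M : X.Modules) (a : A) (U : X.Opens) (s : Γ(M, U)) :
    (Formal.smulMod A M a).app U s = mult X a U • s := rfl

@[reassoc]
theorem smulMod_naturality {M N : X.Modules} (φ : M ⟶ N) (a : A) :
    Formal.smulMod A M a ≫ φ = φ ≫ Formal.smulMod A N a := by
  refine Scheme.Modules.hom_ext _ _ fun U => ?_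
  ext s
  exact φ.app_smul _ s

theorem killedBy_mono {J J' : Ideal A} (h : J ≤ J') {M : X.Modules} (hM : Formal.KilledBy J' M) :
    Formal.KilledBy J M := fun a ha => hM a (h ha)

theorem killedBy_of_epi {J : Ideal A} {M N : X.Modules} (p : M ⟶ N) [Epi p] (hM : Formal.KilledBy J M) :
    Formal.KilledBy J N := fun a ha => by
  rw [← cancel_epi p, ← smulMod_naturality, hM a ha, zero_comp, comp_zero]

theorem killedBy_of_mono {J : Ideal A} {M N : X.Modules} (p : M ⟶ N) [Mono p] (hN : Formal.KilledBy J N) :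
    Formal.KilledBy J M := fun a ha => by
  rw [← cancel_mono p, smulMod_naturality, hN a ha, zero_comp, comp_zero]

theorem smulFamily_comp_eq_zero_iff {J : Ideal A} {M N : X.Modules} (φ : M ⟶ N) :
    Formal.smulFamily J M ≫ φ = 0 ↔ ∀ a ∈ J, Formal.smulMod A M a ≫ φ = 0 := by
  constructor
  · intro h a ha
    have := congrArg (Sigma.ι (fun _ : J => M) ⟨a, ha⟩ ≫ ·) h
    simpa [Formal.smulFamily, Sigma.ι_desc_assoc] using this
  · intro h
    apply Sigma.hom_ext
    intro a
    simp only [Formal.smulFamily, Sigma.ι_desc_assoc, comp_zero]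
    exact h a a.2

theorem smulFamily_comp_of_killed {J : Ideal A} {M N : X.Modules} (φ : M ⟶ N) (hN : Formal.KilledBy J N) :
    Formal.smulFamily J M ≫ φ = 0 :=
  (smulFamily_comp_eq_zero_iff φ).2 fun a ha => by rw [smulMod_naturality, hN a ha, comp_zero]

theorem smulFamily_eq_zero {J : Ideal A} {M : X.Modules} (hM : Formal.KilledBy J M) :
    Formal.smulFamily J M = 0 := by
  simpa using smulFamily_comp_of_killed (𝟙 M) hM

instance epi_modPowπ (I : Ideal A) (n : ℕ) (M : X.Modules) : Epi (Formal.modPowπ I n M) :=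
  inferInstanceAs (Epi (cokernel.π _))

theorem killedBy_modPow (I : Ideal A) (n : ℕ) (M : X.Modules) : Formal.KilledBy (I ^ n) (Formal.modPow I n M) :=
  fun a ha => by
    rw [← cancel_epi (Formal.modPowπ I n M), ← smulMod_naturality, comp_zero]
    exact (smulFamily_comp_eq_zero_iff _).1 (cokernel.condition (Formal.smulFamily (I ^ n) M)) a ha

theorem isIso_modPowπ {I : Ideal A} {n : ℕ} {M : X.Modules} (hM : Formal.KilledBy (I ^ n) M) :
    IsIso (Formal.modPowπ I n M) := by
  refine ⟨cokernel.desc _ (𝟙 M) (smulFamily_comp_of_killed _ hM), cokernel.π_desc _ _ _, ?_⟩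
  rw [← cancel_epi (Formal.modPowπ I n M)]
  erw [cokernel.π_desc_assoc]
  simp

section system

variable {I : Ideal A} {G : ℕᵒᵖ ⥤ X.Modules}

/-- The transition map of a system. -/
abbrev gm (G : ℕᵒᵖ ⥤ X.Modules) {n m : ℕ} (h : n ≤ m) : G.obj (op m) ⟶ G.obj (op n) := G.map (homOfLE h).op

@[reassoc]
theorem gm_comp (G : ℕᵒᵖ ⥤ X.Modules) {n m k : ℕ} (h : n ≤ m) (h' : m ≤ k) :
    gm G h' ≫ gm G h = gm G (h.trans h') := by
  rw [gm, gm, gm, ← G.map_comp]
  rfl

theorem gm_refl (G : ℕᵒᵖ ⥤ X.Modules) (n : ℕ) : gm G (le_refl n) = 𝟙 _ := by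
  rw [gm, show (homOfLE (le_refl n)).op = 𝟙 (op n) from rfl, G.map_id]

variable (hG : ∀ n, ∃ h : Formal.smulFamily (I ^ (n + 1)) (G.obj (op (n + 1))) ≫ G.map (homOfLE (Nat.le_succ n)).op = 0,
    IsIso (cokernel.desc _ _ h))

include hG

theorem epi_succ (n : ℕ) : Epi (gm G (Nat.le_succ n)) := by
  obtain ⟨h, hi⟩ := hG n
  rw [gm, ← cokernel.π_desc _ _ h]
  exact epi_comp _ _

theorem exists_fac_succ (n : ℕ) {T : X.Modules} (φ : G.obj (op (n + 1)) ⟶ T)
    (hφ : ∀ a ∈ I ^ (n + 1), Formal.smulMod A _ a ≫ φ = 0) :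
    ∃ φ' : G.obj (op n) ⟶ T, gm G (Nat.le_succ n) ≫ φ' = φ := by
  obtain ⟨h, hi⟩ := hG n
  refine ⟨inv (cokernel.desc _ _ h) ≫ cokernel.desc _ φ ((smulFamily_comp_eq_zero_iff φ).2 hφ), ?_⟩
  refine (congrArg (· ≫ _) (cokernel.π_desc _ _ h).symm).trans ?_
  rw [Category.assoc, IsIso.hom_inv_id_assoc, cokernel.π_desc]

theorem epi_gm {n m : ℕ} (h : n ≤ m) : Epi (gm G h) := by
  induction m, h using Nat.le_induction with
  | base => rw [gm_refl]; infer_instance
  | succ m h ih =>
    haveI := epi_succ hG m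
    rw [← gm_comp G h (Nat.le_succ m)]
    exact epi_comp _ _

theorem exists_fac {n m : ℕ} (h : n ≤ m) {T : X.Modules} (φ : G.obj (op m) ⟶ T)
    (hφ : ∀ a ∈ I ^ (n + 1), Formal.smulMod A _ a ≫ φ = 0) :
    ∃ φ' : G.obj (op n) ⟶ T, gm G h ≫ φ' = φ := by
  induction m, h using Nat.le_induction with
  | base => exact ⟨φ, by rw [gm_refl]; simp⟩
  | succ m h ih =>
    obtain ⟨φ₁, h₁⟩ := exists_fac_succ hG m φ fun a ha => hφ a (Ideal.pow_le_pow_right (by omega) ha)
    haveI := epi_succ hG m
    obtain ⟨φ', h'⟩ := ih φ₁ fun a ha => by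
      rw [← cancel_epi (gm G (Nat.le_succ m)), ← smulMod_naturality_assoc, h₁, hφ a ha, comp_zero]
    refine ⟨φ', ?_⟩
    rw [← gm_comp G h (Nat.le_succ m), Category.assoc, h', h₁]

theorem isIso_gm_of_killed {c n m : ℕ} (h : n ≤ m) (hc : c ≤ n + 1)
    (hk : ∀ k, Formal.KilledBy (I ^ c) (G.obj (op k))) : IsIso (gm G h) := by
  haveI := epi_gm hG h
  obtain ⟨φ', hφ'⟩ := exists_fac hG h (𝟙 _) fun a ha => by
    rw [Category.comp_id]
    exact hk m a (Ideal.pow_le_pow_right hc ha)
  exact ⟨φ', hφ', by rw [← cancel_epi (gm G h), ← Category.assoc, hφ', Category.id_comp, Category.comp_id]⟩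

/-- A system killed by a fixed power is the system of quotients of one of its terms. -/
theorem exists_iso_completion_of_killed (hk₀ : ∀ n, Formal.KilledBy (I ^ (n + 1)) (G.obj (op n))) {c : ℕ}
    (hk : ∀ k, Formal.KilledBy (I ^ c) (G.obj (op k))) :
    Nonempty (Formal.completion I (G.obj (op c)) ≅ G) := by
  have hr : ∀ n, IsIso (gm G (Nat.le_add_left c n)) := fun n => isIso_gm_of_killed hG _ (Nat.le_succ c) hk
  let ψ₀ : ∀ n, G.obj (op c) ⟶ G.obj (op n) := fun n =>
    inv (gm G (Nat.le_add_left c n)) ≫ gm G (Nat.le_add_right n c)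
  let ψ : ∀ n, Formal.modPow I (n + 1) (G.obj (op c)) ⟶ G.obj (op n) := fun n =>
    cokernel.desc _ (ψ₀ n) (smulFamily_comp_of_killed _ (hk₀ n))
  have hπ : ∀ n, Formal.modPowπ I (n + 1) (G.obj (op c)) ≫ ψ n = ψ₀ n := fun n => cokernel.π_desc _ _ _
  haveI : ∀ n, IsIso (ψ n) := fun n => by
    obtain ⟨φ', hφ'⟩ := exists_fac hG (Nat.le_add_right n c)
      (gm G (Nat.le_add_left c n) ≫ Formal.modPowπ I (n + 1) (G.obj (op c))) fun a ha => by
        rw [smulMod_naturality_assoc, smulMod_naturality, killedBy_modPow I (n + 1) _ a ha, comp_zero, comp_zero]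
    haveI := epi_gm hG (Nat.le_add_right n c)
    refine ⟨φ', ?_, ?_⟩
    · rw [← cancel_epi (Formal.modPowπ I (n + 1) (G.obj (op c))), ← Category.assoc, hπ, Category.comp_id,
        Category.assoc, hφ', IsIso.inv_hom_id_assoc]
    · rw [← cancel_epi (gm G (Nat.le_add_right n c)), ← Category.assoc, hφ', Category.assoc, hπ,
        IsIso.hom_inv_id_assoc, Category.comp_id]
  let α : Formal.completion I (G.obj (op c)) ⟶ G := NatTrans.ofOpSequence ψ fun n => by
    simp only [Formal.completion, Functor.ofOpSequence_map_homOfLE_succ]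
    refine (cancel_epi (Formal.modPowπ I (n + 1 + 1) (G.obj (op c)))).1 ?_
    refine ((Category.assoc _ _ _).symm.trans (congrArg (· ≫ ψ n) (Formal.modPowπ_trans I (n + 1) _))).trans ?_
    refine (hπ n).trans (Eq.trans ?_ ((Category.assoc _ _ _).trans rfl))
    erw [hπ (n + 1)]
    simp only [ψ₀, Category.assoc]
    rw [IsIso.eq_inv_comp]
    have h1 : gm G (Nat.le_succ (n + c)) ≫ gm G (Nat.le_add_left c n) = gm G (Nat.le_trans (Nat.le_add_left c n) (Nat.le_succ _)) :=
      gm_comp G _ _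
    have h2 : gm G (show n + c ≤ n + 1 + c by omega) ≫ gm G (Nat.le_add_left c n) = gm G (Nat.le_add_left c (n + 1)) :=
      gm_comp G _ _
    rw [← h2, Category.assoc, IsIso.hom_inv_id_assoc]
    exact (gm_comp G _ _).trans (gm_comp G _ _).symm
  haveI : ∀ k, IsIso (α.app k) := fun ⟨n⟩ => inferInstanceAs (IsIso (ψ n))
  haveI : IsIso α := NatIso.isIso_of_isIso_app α
  exact ⟨asIso α⟩

end system

section pullback

variable {Y : Scheme.{u}} [Y.Over (Spec (CommRingCat.of A))] (f : X ⟶ Y)
  (hf : f ≫ (Y ↘ Spec (CommRingCat.of A)) = X ↘ Spec (CommRingCat.of A))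

include hf

theorem pushforward_map_smulMod (M : X.Modules) (a : A) :
    (Scheme.Modules.pushforward f).map (Formal.smulMod A M a) =
      Formal.smulMod A ((Scheme.Modules.pushforward f).obj M) a := by
  refine Scheme.Modules.hom_ext _ _ fun U => ?_
  ext s
  change mult X a (f ⁻¹ᵁ U) • (show Γ(M, f ⁻¹ᵁ U) from s) = f.app U (mult Y a U) • (show Γ(M, f ⁻¹ᵁ U) from s)
  congr 1
  have h1 : Coh.toGlobal (X ↘ Spec (CommRingCat.of A)) a =
      f.appTop (Coh.toGlobal (Y ↘ Spec (CommRingCat.of A)) a) := by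
    rw [← hf]; rfl
  rw [mult, h1]
  exact (ConcreteCategory.congr_hom (f.naturality (homOfLE (le_top : U ≤ ⊤)).op) _).symm

theorem pullback_map_smulMod (M : Y.Modules) (a : A) :
    (Scheme.Modules.pullback f).map (Formal.smulMod A M a) =
      Formal.smulMod A ((Scheme.Modules.pullback f).obj M) a := by
  apply ((Scheme.Modules.pullbackPushforwardAdjunction f).homEquiv _ _).injective
  rw [Adjunction.homEquiv_unit, Adjunction.homEquiv_unit, pushforward_map_smulMod f hf]
  exact (((Scheme.Modules.pullbackPushforwardAdjunction f).unit.naturality _).symm.trans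
    (smulMod_naturality ((Scheme.Modules.pullbackPushforwardAdjunction f).unit.app M) a))

theorem killedBy_pullback {J : Ideal A} {M : Y.Modules} (hM : Formal.KilledBy J M) :
    Formal.KilledBy J ((Scheme.Modules.pullback f).obj M) := fun a ha => by
  rw [← pullback_map_smulMod f hf, hM a ha, Functor.map_zero]

theorem isQuot_pullback {J : Ideal A} {M N : Y.Modules} (p : M ⟶ N)
    (h : Formal.smulFamily J M ≫ p = 0) (hi : IsIso (cokernel.desc _ _ h)) :
    ∃ h' : Formal.smulFamily J ((Scheme.Modules.pullback f).obj M) ≫ (Scheme.Modules.pullback f).map p = 0,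
      IsIso (cokernel.desc _ _ h') := by
  let F := Scheme.Modules.pullback f
  have hs : ∀ a ∈ J, Formal.smulMod A (F.obj M) a ≫ F.map p = 0 := fun a ha => by
    rw [← pullback_map_smulMod f hf, ← F.map_comp, (smulFamily_comp_eq_zero_iff p).1 h a ha, F.map_zero]
  have h' := (smulFamily_comp_eq_zero_iff _).2 hs
  refine ⟨h', ?_⟩
  have h0 : F.map (Formal.smulFamily J M) ≫ cokernel.π (Formal.smulFamily J (F.obj M)) = 0 := by
    haveI : PreservesColimitsOfShape (Discrete J) F :=
      (Scheme.Modules.pullbackPushforwardAdjunction f).leftAdjoint_preservesColimits.preservesColimitsOfShape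
    refine Cofan.IsColimit.hom_ext (isColimitCofanMkObjOfIsColimit F _ _ (coproductIsCoproduct (fun _ : J => M))) _ _ fun b => ?_
    rw [comp_zero]
    show F.map (Sigma.ι (fun _ : J => M) b) ≫ _ = 0
    simp only [← Category.assoc, ← F.map_comp, Formal.smulFamily, Sigma.ι_desc]
    rw [pullback_map_smulMod f hf]
    exact (smulFamily_comp_eq_zero_iff _).1 (cokernel.condition _) b.1 b.2
  haveI : PreservesColimit (parallelPair (Formal.smulFamily J M) 0) F :=
    (Scheme.Modules.pullbackPushforwardAdjunction f).leftAdjoint_preservesColimits.preservesColimitsOfShape.preservesColimit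
  let e : cokernel (F.map (Formal.smulFamily J M)) ≅ F.obj N := (PreservesCokernel.iso F _).symm ≪≫ F.mapIso (asIso (cokernel.desc _ _ h))
  have he : cokernel.π (F.map (Formal.smulFamily J M)) ≫ e.hom = F.map p := by
    simp [e, ← F.map_comp]
  refine ⟨e.inv ≫ cokernel.desc _ _ h0, ?_, ?_⟩
  · rw [← cancel_epi (cokernel.π (Formal.smulFamily J (F.obj M))), cokernel.π_desc_assoc, ← he, Category.assoc,
      Iso.hom_inv_id_assoc, cokernel.π_desc, Category.comp_id]
  · haveI : Epi (F.map p) := by rw [← he]; exact epi_comp _ _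
    rw [← cancel_epi (F.map p)]
    have h3 : F.map p ≫ e.inv = cokernel.π (F.map (Formal.smulFamily J M)) := by
      rw [← he, Category.assoc, Iso.hom_inv_id, Category.comp_id]
    refine ((Category.assoc _ _ _).symm.trans (congrArg (· ≫ _) ((Category.assoc _ _ _).symm.trans (congrArg (· ≫ _) h3)))).trans ?_
    erw [cokernel.π_desc, cokernel.π_desc, Category.comp_id]

end pullback

end Groth.Agent.FormalH7
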