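import Groth.Agent.Lib.FormalH7.ModPow
import Groth.Agent.Lib.TensorMod.PullStalk
import Groth.Agent.Lib.ModM1.Stalk
import Groth.Agent.Lib.AdicLimH7.Basic
import Groth.Prelude.Def_Formal2
import Groth.Prelude.Def_RefHull

/-!
Sections of quotients by powers of an ideal over affine opens.
-/

universe u

open CategoryTheory CategoryTheory.Limits AlgebraicGeometry Opposite

set_option backward.isDefEq.respectTransparency false

namespace Groth.Agent.FormalH7

variable {A : Type u} [CommRing A] {X : Scheme.{u}} [X.Over (Spec (CommRingCat.of A))]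

/-- The structure map to the functions on an open. -/
noncomputable def multHom (X : Scheme.{u}) [X.Over (Spec (CommRingCat.of A))] (U : X.Opens) : A →+* Γ(X, U) :=
  (X.presheaf.map (homOfLE (le_top : U ≤ ⊤)).op).hom.comp (Coh.toGlobal (X ↘ Spec (CommRingCat.of A)))

theorem multHom_apply (U : X.Opens) (a : A) : multHom X U a = mult X a U := rfl

theorem germ_mult {U : X.Opens} {x : X} (hx : x ∈ U) (a : A) :
    X.presheaf.germ U x hx (mult X a U) = X.presheaf.germ ⊤ x trivial (mult X a ⊤) := by
  simp only [mult, TopCat.Presheaf.germ_res_apply]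

/-- The ideal of a stalk generated by an ideal of the base. -/
noncomputable def stalkIdeal (J : Ideal A) (x : X) : Ideal (X.presheaf.stalk x) :=
  J.map ((X.presheaf.germ ⊤ x trivial).hom.comp (multHom X ⊤))

theorem map_germ_multHom (J : Ideal A) {U : X.Opens} {x : X} (hx : x ∈ U) :
    stalkIdeal J x = (J.map (multHom X U)).map (X.presheaf.germ U x hx).hom := by
  rw [stalkIdeal, Ideal.map_map]
  congr 1
  exact RingHom.ext fun a => (germ_mult hx a).symm

/-- On stalks the kernel of the projection is the ideal times the module. -/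
theorem mem_stalk_of_map_eq_zero {J : Ideal A} {M N : X.Modules} (p : M ⟶ N)
    (h : Formal.smulFamily J M ≫ p = 0) (hi : IsIso (cokernel.desc _ _ h)) (x : X) (b : M.presheaf.stalk x)
    (hb : (M1.stalkAb x).map p b = 0) :
    b ∈ stalkIdeal J x • (⊤ : Submodule (X.presheaf.stalk x) (M.presheaf.stalk x)) := by
  let T : Submodule (X.presheaf.stalk x) (M.presheaf.stalk x : Type u) := stalkIdeal J x • ⊤
  let ψ : M ⟶ M2.sky x ((M.presheaf.stalk x : Type u) ⧸ T) := M2.toSky x M ≫ M2.skyMap T.mkQ
  have hψ : Formal.smulFamily J M ≫ ψ = 0 := by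
    refine (smulFamily_comp_eq_zero_iff ψ).2 fun a ha => Scheme.Modules.hom_ext _ _ fun U => ?_
    ext s
    refine M2.sky_ext x _ _ _ fun hx => ?_
    change M2.skyEvalAt x _ hx ((M2.skyMap T.mkQ).app U ((M2.toSky x M).app U ((Formal.smulMod A M a).app U s))) = 0
    rw [M2.skyMap_app, M2.toSky_app, smulMod_app, M1.germ_smul, Submodule.mkQ_apply, Submodule.Quotient.mk_eq_zero]
    refine Submodule.smul_mem_smul ?_ Submodule.mem_top
    rw [germ_mult hx]
    exact Ideal.mem_map_of_mem _ ha
  have hp : p ≫ inv (cokernel.desc _ _ h) ≫ cokernel.desc _ ψ hψ = ψ := by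
    refine (congrArg (· ≫ _) (cokernel.π_desc _ _ h).symm).trans ?_
    rw [Category.assoc, IsIso.hom_inv_id_assoc, cokernel.π_desc]
  have h0 : (M1.stalkAb x).map ψ b = 0 := by
    rw [← hp, Functor.map_comp, CategoryTheory.comp_apply, hb, map_zero]
  obtain ⟨U, hxU, s, rfl⟩ := M.presheaf.exists_germ_eq b
  rw [M1.germ_naturality] at h0
  have h1 := congrArg (M2.skyEval x _) h0
  rw [M2.skyEval_germ, map_zero] at h1
  change M2.skyEvalAt x _ hxU ((M2.skyMap T.mkQ).app U ((M2.toSky x M).app U s)) = 0 at h1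
  rw [M2.skyMap_app, M2.toSky_app, Submodule.mkQ_apply, Submodule.Quotient.mk_eq_zero] at h1
  exact h1

/-- A section whose germs lie in the ideal times the stalks lies in the ideal times the sections. -/
theorem mem_smul_of_germ_mem {M : X.Modules} [Coh.IsQCoh M] {U : X.Opens} (hU : IsAffineOpen U)
    (𝔞 : Ideal Γ(X, U)) (m : Γ(M, U))
    (hm : ∀ (x : X) (hx : x ∈ U), M.presheaf.germ U x hx m ∈
      𝔞.map (X.presheaf.germ U x hx).hom • (⊤ : Submodule (X.presheaf.stalk x) (M.presheaf.stalk x))) :
    m ∈ 𝔞 • (⊤ : Submodule Γ(X, U) Γ(M, U)) := by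
  let N : Submodule Γ(X, U) Γ(M, U) := 𝔞 • ⊤
  let 𝔟 : Ideal Γ(X, U) := N.comap (LinearMap.toSpanSingleton Γ(X, U) Γ(M, U) m)
  suffices 𝔟 = ⊤ by
    have h1 : (1 : Γ(X, U)) ∈ 𝔟 := this ▸ trivial
    simpa [𝔟] using h1
  by_contra htop
  obtain ⟨P, hP, hbP⟩ := Ideal.exists_le_maximal 𝔟 htop
  let z : PrimeSpectrum Γ(X, U) := ⟨P, hP.isPrime⟩
  have hx : hU.fromSpec z ∈ U := by
    rw [← SetLike.mem_coe, ← hU.range_fromSpec]
    exact ⟨z, rfl⟩
  have hz : hU.primeIdealOf ⟨_, hx⟩ = z :=
    hU.fromSpec.isOpenEmbedding.injective (hU.fromSpec_primeIdealOf _)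
  let x : X := hU.fromSpec z
  have key : ∀ b ∈ 𝔞.map (X.presheaf.germ U x hx).hom • (⊤ : Submodule (X.presheaf.stalk x) (M.presheaf.stalk x)),
      ∃ (r : Γ(X, U)) (t : Γ(M, U)), IsUnit (X.presheaf.germ U x hx r) ∧ t ∈ N ∧
        X.presheaf.germ U x hx r • b = M.presheaf.germ U x hx t := by
    intro b hb
    rw [Ideal.map, Submodule.span_smul_eq] at hb
    induction b, hb using Submodule.set_smul_inductionOn with
    | @smul₀ j y hj hy =>
      obtain ⟨c, hc, rfl⟩ := hj
      obtain ⟨r, t, hr, ht⟩ := M1.exists_germ_smul_eq M hU hx y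
      exact ⟨r, c • t, hr, Submodule.smul_mem_smul hc Submodule.mem_top, by rw [M1.germ_smul, smul_comm, ht]⟩
    | smul₁ q hy ih =>
      obtain ⟨r, t, hr, htN, ht⟩ := ih
      let := TopCat.Presheaf.algebra_section_stalk X.presheaf (⟨x, hx⟩ : U)
      have := hU.isLocalization_stalk ⟨x, hx⟩
      obtain ⟨⟨c, s⟩, hcs⟩ := IsLocalization.surj (hU.primeIdealOf ⟨x, hx⟩).asIdeal.primeCompl q
      refine ⟨s.1 * r, c • t, ?_, Submodule.smul_mem _ _ htN, ?_⟩
      · rw [map_mul]; exact ((M1.isUnit_germ_iff hU hx s.1).mpr s.2).mul hr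
      · rw [M1.germ_smul, ← ht, map_mul, smul_smul, smul_smul]
        congr 1
        have e : q * X.presheaf.germ U x hx s.1 = X.presheaf.germ U x hx c := hcs
        rw [← e]
        ring
    | add hy hy' ih ih' =>
      obtain ⟨r, t, hr, htN, ht⟩ := ih
      obtain ⟨r', t', hr', htN', ht'⟩ := ih'
      refine ⟨r * r', r' • t + r • t', by rw [map_mul]; exact hr.mul hr', add_mem (Submodule.smul_mem _ _ htN) (Submodule.smul_mem _ _ htN'), ?_⟩
      rw [map_add, M1.germ_smul, M1.germ_smul, ← ht, ← ht', map_mul, smul_add, smul_smul, smul_smul, mul_comm (X.presheaf.germ U x hx r)]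
    | zero => exact ⟨1, 0, by rw [map_one]; exact isUnit_one, zero_mem _, by rw [smul_zero, map_zero]⟩
  obtain ⟨r, t, hr, htN, ht⟩ := key _ (hm x hx)
  have h0 : M.presheaf.germ U x hx (r • m - t) = 0 := by
    rw [map_sub, M1.germ_smul, ht, sub_self]
  obtain ⟨s, hs, h1⟩ := M1.exists_smul_eq_zero_of_germ_eq_zero M hU hx _ h0
  have hsr : s * r ∈ 𝔟 := by
    show (s * r) • m ∈ N
    rw [mul_smul]
    rw [smul_sub, sub_eq_zero] at h1
    rw [h1]
    exact Submodule.smul_mem _ _ htN
  have hu := (M1.isUnit_germ_iff hU hx (s * r)).mp (by rw [map_mul]; exact hs.mul hr)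
  rw [hz] at hu
  exact hu (hbP hsr)

/-- Sections over an affine open as a module over the base. -/
noncomputable abbrev secMod (M : X.Modules) (U : X.Opens) : Module A Γ(M, U) := Module.compHom _ (multHom X U)

/-- The kernel of the projection on sections over an affine open. -/
theorem mem_smul_of_app_eq_zero {J : Ideal A} {M N : X.Modules} (hM : Coh.IsQCoh M) (p : M ⟶ N)
    (h : Formal.smulFamily J M ≫ p = 0) (hi : IsIso (cokernel.desc _ _ h)) {U : X.Opens} (hU : IsAffineOpen U)
    (m : Γ(M, U)) (hm : p.app U m = 0) :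
    letI := secMod (A := A) M U
    m ∈ J • (⊤ : Submodule A Γ(M, U)) := by
  letI := secMod (A := A) M U
  letI : Algebra A Γ(X, U) := (multHom X U).toAlgebra
  haveI : IsScalarTower A Γ(X, U) Γ(M, U) := IsScalarTower.of_algebraMap_smul fun _ _ => rfl
  haveI := hM
  have h1 : m ∈ J.map (multHom X U) • (⊤ : Submodule Γ(X, U) Γ(M, U)) := by
    refine mem_smul_of_germ_mem hU _ m fun x hx => ?_
    rw [← map_germ_multHom J hx]
    refine mem_stalk_of_map_eq_zero p h hi x _ ?_
    rw [M1.germ_naturality, hm]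
    exact map_zero _
  have h2 : (J.map (algebraMap A Γ(X, U)) • (⊤ : Submodule Γ(X, U) Γ(M, U))).restrictScalars A =
      J • (⊤ : Submodule A Γ(M, U)) := by
    rw [Ideal.smul_restrictScalars, Submodule.restrictScalars_top]
  exact h2.le h1

/-- Projections are surjective on sections over affine opens. -/
theorem app_surjective_of_isQuot {J : Ideal A} {M N : X.Modules} (hM : Coh.IsQCoh M) (hN : Coh.IsQCoh N) (p : M ⟶ N)
    (h : Formal.smulFamily J M ≫ p = 0) (hi : IsIso (cokernel.desc _ _ h)) {U : X.Opens} (hU : IsAffineOpen U) :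
    Function.Surjective (p.app U) := by
  haveI : Epi p := by rw [← cokernel.π_desc _ _ h]; exact epi_comp _ _
  exact M1.app_surjective_affine_of_isQCoh hM hN p hU

/-- Multiples by the ideal die in the projection. -/
theorem app_eq_zero_of_mem {J : Ideal A} {M N : X.Modules} (p : M ⟶ N)
    (h : Formal.smulFamily J M ≫ p = 0) {U : X.Opens} {m : Γ(M, U)}
    (hm : letI := secMod (A := A) M U; m ∈ J • (⊤ : Submodule A Γ(M, U))) : p.app U m = 0 := by
  letI := secMod (A := A) M U
  refine Submodule.smul_induction_on hm (fun a ha m _ => ?_) fun m m' hm hm' => by rw [map_add, hm, hm', add_zero]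
  exact congrArg (fun φ => φ.app U m) ((smulFamily_comp_eq_zero_iff p).1 h a ha)

section system

variable {I : Ideal A} {G : ℕᵒᵖ ⥤ X.Modules}

/-- Sections over an open, as a functor to types. -/
noncomputable abbrev secFunctor (X : Scheme.{u}) (U : X.Opens) : X.Modules ⥤ Type u :=
  Scheme.Modules.toPresheaf X ⋙ (evaluation _ _).obj (op U) ⋙ forget AddCommGrpCat.{u}

instance preservesLimit_secFunctor (U : X.Opens) : PreservesLimitsOfSize.{0, 0} (secFunctor X U) :=
  haveI h1 : PreservesLimitsOfSize.{u, u} (Scheme.Modules.toPresheaf X) := inferInstance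
  haveI h2 : PreservesLimitsOfSize.{u, u} ((evaluation (X.Opens)ᵒᵖ AddCommGrpCat.{u}).obj (op U) ⋙ forget AddCommGrpCat.{u}) :=
    comp_preservesLimits _ _
  haveI : PreservesLimitsOfSize.{u, u} (secFunctor X U) := comp_preservesLimits _ _
  preservesLimitsOfSize_shrink.{0, u, 0, u} _

/-- Compatible sections of a system on an open come from the limit. -/
theorem exists_limit_section (G : ℕᵒᵖ ⥤ X.Modules) (U : X.Opens) (s : ∀ n, Γ(G.obj (op n), U))
    (hs : ∀ n, (G.map (homOfLE (Nat.le_succ n)).op).app U (s (n + 1)) = s n) :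
    ∃ l : Γ(limit G, U), ∀ n, (limit.π G (op n)).app U l = s n := by
  have hlim := isLimitOfPreserves (secFunctor X U) (limit.isLimit G)
  have key : ∀ {n m : ℕ} (h : n ≤ m), (gm G h).app U (s m) = s n := by
    intro n m h
    induction m, h using Nat.le_induction with
    | base => rw [gm_refl]; rfl
    | succ m h ih =>
      rw [← gm_comp G h (Nat.le_succ m), Scheme.Modules.Hom.comp_app, CategoryTheory.comp_apply, hs m, ih]
  let sec : (G ⋙ secFunctor X U).sections := ⟨fun n => s n.unop, fun {n m} g => by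
    obtain ⟨n⟩ := n
    obtain ⟨m⟩ := m
    have : g = (homOfLE (leOfHom g.unop)).op := Subsingleton.elim _ _
    rw [this]
    exact key _⟩
  exact ⟨(Types.isLimitEquivSections hlim).symm sec, fun n => Types.isLimitEquivSections_symm_apply hlim sec (op n)⟩

/-- Sections of the limit are determined by their projections. -/
theorem limit_section_ext (G : ℕᵒᵖ ⥤ X.Modules) (U : X.Opens) (l : Γ(limit G, U))
    (h : ∀ n, (limit.π G (op n)).app U l = 0) : l = 0 := by
  have hlim := isLimitOfPreserves (secFunctor X U) (limit.isLimit G)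
  apply (Types.isLimitEquivSections hlim).injective
  refine Subtype.ext (funext fun n => ?_)
  rw [Types.isLimitEquivSections_apply, Types.isLimitEquivSections_apply]
  exact (h n.unop).trans (map_zero ((limit.π G n).app U).hom).symm

/-- The sections of a quasi-coherent system over an affine open form an adic system. -/
theorem sys_sections (hq : ∀ n, Coh.IsQCoh (G.obj (op n)))
    (hG : ∀ n, ∃ h : Formal.smulFamily (I ^ (n + 1)) (G.obj (op (n + 1))) ≫ G.map (homOfLE (Nat.le_succ n)).op = 0,
      IsIso (cokernel.desc _ _ h)) {U : X.Opens} (hU : IsAffineOpen U) :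
    letI := fun n => secMod (A := A) (G.obj (op n)) U
    letI := secMod (A := A) (limit G) U
    AdicLimH7.Sys I (fun n => Γ(G.obj (op n), U))
      (fun n => { toFun := (G.map (homOfLE (Nat.le_succ n)).op).app U
                  map_add' := map_add _
                  map_smul' := fun a m => Scheme.Modules.Hom.app_smul _ (multHom X U a) m })
      Γ(limit G, U)
      (fun n => { toFun := (limit.π G (op n)).app U
                  map_add' := map_add _
                  map_smul' := fun a m => Scheme.Modules.Hom.app_smul _ (multHom X U a) m }) := by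
  letI := fun n => secMod (A := A) (G.obj (op n)) U
  letI := secMod (A := A) (limit G) U
  refine ⟨fun n => ?_, fun n => ?_, fun n => ?_, fun x hx => limit_section_ext G U x hx,
    fun y hy => exists_limit_section G U y hy⟩
  · obtain ⟨h, hi⟩ := hG n
    exact app_surjective_of_isQuot (hq _) (hq _) _ h hi hU
  · obtain ⟨h, hi⟩ := hG n
    ext m
    exact ⟨fun hm => mem_smul_of_app_eq_zero (hq _) _ h hi hU m hm, fun hm => app_eq_zero_of_mem _ h hm⟩
  · ext m
    exact congrArg (fun φ => φ.app U m) (limit.w G (homOfLE (Nat.le_succ n)).op)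

/-- The limit of a quasi-coherent system truncates to its terms. -/
theorem limit_truncation (hI : I.FG) (hq : ∀ n, Coh.IsQCoh (G.obj (op n)))
    (hk : ∀ n, Formal.KilledBy (I ^ (n + 1)) (G.obj (op n)))
    (hG : ∀ n, ∃ h : Formal.smulFamily (I ^ (n + 1)) (G.obj (op (n + 1))) ≫ G.map (homOfLE (Nat.le_succ n)).op = 0,
      IsIso (cokernel.desc _ _ h)) (n : ℕ) :
    ∃ h : Formal.smulFamily (I ^ (n + 1)) (limit G) ≫ limit.π G (op n) = 0,
      IsIso (cokernel.desc _ _ h) := by
  have h := smulFamily_comp_of_killed (limit.π G (op n)) (hk n)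
  refine ⟨h, ?_⟩
  rw [M1.isIso_iff_stalk]
  intro x
  constructor
  · rw [injective_iff_map_eq_zero]
    intro c hc
    obtain ⟨b, rfl⟩ := (M1.epi_iff_stalk (cokernel.π (Formal.smulFamily (I ^ (n + 1)) (limit G)))).mp inferInstance x c
    rw [← CategoryTheory.comp_apply, ← Functor.map_comp, cokernel.π_desc] at hc
    obtain ⟨W, hxW, s, rfl⟩ := (limit G).presheaf.exists_germ_eq b
    rw [M1.germ_naturality] at hc
    obtain ⟨V, hxV, i₁, i₂, he⟩ := (G.obj (op n)).presheaf.germ_eq x hxW hxW _ 0 (hc.trans (map_zero _).symm)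
    obtain ⟨U, hU, hxU, hUV⟩ := exists_isAffineOpen_mem_and_subset (x := x) (U := V) hxV
    have hUW : U ≤ W := fun y hy => i₁.le (hUV hy)
    have h0 : (limit.π G (op n)).app U (M1.mres (limit G) hUW s) = 0 := by
      rw [M1.app_mres, ← M1.mres_mres (G.obj (op n)) i₁.le hUV]
      refine (congrArg _ he).trans ?_
      rw [map_zero, map_zero]
    letI := fun k => secMod (A := A) (G.obj (op k)) U
    letI := secMod (A := A) (limit G) U
    have hmem := ((sys_sections hq hG hU).ker_eq hI n).le (LinearMap.mem_ker.mpr h0)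
    have h2 := app_eq_zero_of_mem (cokernel.π (Formal.smulFamily (I ^ (n + 1)) (limit G))) (cokernel.condition _) hmem
    rw [← M1.germ_mres (limit G) hUW hxU s, M1.germ_naturality, h2]
    exact map_zero _
  · intro b
    obtain ⟨W, hxW, t, rfl⟩ := (G.obj (op n)).presheaf.exists_germ_eq b
    obtain ⟨U, hU, hxU, hUW⟩ := exists_isAffineOpen_mem_and_subset (x := x) (U := W) hxW
    letI := fun k => secMod (A := A) (G.obj (op k)) U
    letI := secMod (A := A) (limit G) U
    obtain ⟨l, hl⟩ := (sys_sections hq hG hU).surjective n (M1.mres (G.obj (op n)) hUW t)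
    refine ⟨(M1.stalkAb x).map (cokernel.π _) ((limit G).presheaf.germ U x hxU l), ?_⟩
    rw [← CategoryTheory.comp_apply, ← Functor.map_comp, cokernel.π_desc, M1.germ_naturality]
    refine (congrArg _ hl).trans ?_
    exact M1.germ_mres _ hUW hxU t

end system

end Groth.Agent.FormalH7
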