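import Groth.Agent.Lib.Compl.Noetherian
import Mathlib.RingTheory.RingHom.Flat
import Mathlib.RingTheory.TensorProduct.Quotient
import Mathlib.RingTheory.AdicCompletion.AsTensorProduct
import Mathlib.RingTheory.AdicCompletion.RingHom

/-!
# Units, quotients and flatness for adic completions of rings
-/

set_option autoImplicit false
universe u

open TensorProduct

namespace Groth.Agent.FormalH7

variable {R : Type u} [CommRing R] (I : Ideal R)

theorem ker_evalₐ_eq_map (hI : I.FG) (n : ℕ) :
    RingHom.ker (AdicCompletion.evalₐ I n).toRingHom = (I ^ n).map (algebraMap R (AdicCompletion I R)) := by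
  ext x
  rw [RingHom.mem_ker]
  have h : x ∈ (I ^ n).map (algebraMap R (AdicCompletion I R)) ↔ x ∈ (AdicCompletion.eval I R n).ker := by
    rw [← AdicCompletion.pow_smul_top_eq_ker_eval hI, Ideal.smul_top_eq_map]
    rfl
  rw [h, LinearMap.mem_ker]
  have hinj : Function.Injective (Ideal.Quotient.factor (le_of_eq (Ideal.mul_top (I ^ n)))) := by
    simpa [RingHom.injective_iff_ker_eq_bot, Ideal.Quotient.factor_ker]
      using Ideal.map_mk_eq_bot_of_le (le_of_eq (Ideal.mul_top (I ^ n)).symm)
  rw [AlgHom.toRingHom_eq_coe, AlgHom.coe_toRingHom,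
    ← AdicCompletion.factor_eval_eq_evalₐ I x (le_of_eq (Ideal.mul_top (I ^ n)))]
  exact map_eq_zero_iff _ hinj

/-- The quotients of an adic completion. -/
noncomputable def cplQuotEquiv (hI : I.FG) (n : ℕ) :
    AdicCompletion I R ⧸ (I ^ n).map (algebraMap R (AdicCompletion I R)) ≃+* R ⧸ I ^ n :=
  (Ideal.quotEquivOfEq (ker_evalₐ_eq_map I hI n).symm).trans
    (RingHom.quotientKerEquivOfSurjective (AdicCompletion.surjective_evalₐ I n))

theorem cplQuotEquiv_mk (hI : I.FG) (n : ℕ) (x : AdicCompletion I R) :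
    cplQuotEquiv I hI n (Ideal.Quotient.mk _ x) = AdicCompletion.evalₐ I n x := rfl

/-- An element of an adic completion is a unit as soon as it is one modulo `I`. -/
theorem isUnit_of_isUnit_evalₐ {x : AdicCompletion I R} (h : IsUnit (AdicCompletion.evalₐ I 1 x)) : IsUnit x := by
  have hu : ∀ n, IsUnit (x.val n) := fun n => by
    obtain ⟨a, ha⟩ := Ideal.Quotient.mk_surjective (x.val n)
    rcases Nat.eq_zero_or_pos n with rfl | hn
    · haveI : Subsingleton (R ⧸ (I ^ 0 • ⊤ : Ideal R)) := Ideal.Quotient.subsingleton_iff.2 (by simp)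
      exact isUnit_of_subsingleton _
    · have h1 : AdicCompletion.evalₐ I 1 x = Ideal.Quotient.mk (I ^ 1) a := by
        rw [← AdicCompletion.factor_eval_eq_evalₐ I x (le_of_eq (Ideal.mul_top _))]
        show Ideal.Quotient.factor (le_of_eq (Ideal.mul_top (I ^ 1))) (x.val 1) = _
        rw [← x.2 hn, ← ha]
        rfl
      rw [h1] at h
      obtain ⟨b, hb⟩ := Ideal.Quotient.mk_surjective (↑h.unit⁻¹ : R ⧸ I ^ 1)
      have hab : a * b - 1 ∈ I := by
        have : Ideal.Quotient.mk (I ^ 1) (a * b) = Ideal.Quotient.mk (I ^ 1) 1 := by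
          rw [map_mul, hb, map_one]; exact h.mul_val_inv
        rwa [Ideal.Quotient.eq, pow_one] at this
      have hnil : IsNilpotent (Ideal.Quotient.mk (I ^ n • ⊤ : Ideal R) (a * b - 1)) :=
        ⟨n, by
          rw [← map_pow, Ideal.Quotient.eq_zero_iff_mem, smul_eq_mul, Ideal.mul_top]
          exact Ideal.pow_mem_pow hab n⟩
      have hab' : IsUnit (Ideal.Quotient.mk (I ^ n • ⊤ : Ideal R) (a * b)) := by
        have := hnil.isUnit_one_add
        rwa [← map_one (Ideal.Quotient.mk (I ^ n • ⊤ : Ideal R)), ← map_add, add_sub_cancel] at this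
      rw [map_mul, ha] at hab'
      exact isUnit_of_mul_isUnit_left hab'
  refine IsUnit.of_mul_eq_one ⟨fun n => ↑(hu n).unit⁻¹, fun {m n} hmn => ?_⟩ (Subtype.ext (funext fun n => ?_))
  · apply (hu m).mul_left_cancel
    rw [IsUnit.mul_val_inv]
    conv_lhs => rw [← x.2 hmn, ← AdicCompletion.transitionMap_map_mul, IsUnit.mul_val_inv,
      AdicCompletion.transitionMap_map_one]
  · exact IsUnit.mul_val_inv (hu n)

theorem flat_quotientMap_algebra (S : Type u) [CommRing S] [Algebra R S] [Module.Flat R S] :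
    (Ideal.quotientMap (I.map (algebraMap R S)) (algebraMap R S) Ideal.le_comap_map).Flat := by
  haveI : Module.Flat (R ⧸ I) ((R ⧸ I) ⊗[R] S) := Module.Flat.baseChange R (R ⧸ I) S
  have hflat : Module.Flat (R ⧸ I) (S ⧸ I.map (algebraMap R S)) :=
    Module.Flat.of_linearEquiv (Algebra.TensorProduct.quotIdealMapEquivQuotTensor S I).toLinearEquiv
  have e : Ideal.quotientMap (I.map (algebraMap R S)) (algebraMap R S) Ideal.le_comap_map =
      algebraMap (R ⧸ I) (S ⧸ I.map (algebraMap R S)) :=
    Ideal.Quotient.ringHom_ext (RingHom.ext fun r => rfl)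
  rw [e]
  exact RingHom.flat_algebraMap_iff.2 hflat

/-- Base change of a flat map along a quotient. -/
theorem flat_quotientMap {S : Type u} [CommRing S] {φ : R →+* S} (h : φ.Flat) :
    (Ideal.quotientMap (I.map φ) φ Ideal.le_comap_map).Flat := by
  letI := φ.toAlgebra
  haveI : Module.Flat R S := h
  exact flat_quotientMap_algebra I S

end Groth.Agent.FormalH7
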