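import Groth.Agent.Lib.FormalH7.Sys
import Groth.Agent.Lib.H12.SepDesc
import Groth.Agent.Lib.AlgSpDescent.NilpotentRing
import Mathlib.AlgebraicGeometry.ZariskisMainTheorem
import Mathlib.RingTheory.Nakayama

/-!
# Properties of morphisms detected on a nilpotent thickening
-/

set_option autoImplicit false
universe u

open CategoryTheory CategoryTheory.Limits AlgebraicGeometry

namespace Groth.Agent.FormalH7

variable {X₀ X Y₀ Y : Scheme.{u}} {iX : X₀ ⟶ X} {f₀ : X₀ ⟶ Y₀} {f : X ⟶ Y} {iY : Y₀ ⟶ Y}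

theorem isSeparated_iff_of_thickening [IsClosedImmersion iX] [Surjective iX] [IsClosedImmersion iY]
    (h : f₀ ≫ iY = iX ≫ f) : IsSeparated f ↔ IsSeparated f₀ := by
  constructor
  · intro hf
    haveI : IsSeparated (f₀ ≫ iY) := by rw [h]; infer_instance
    exact IsSeparated.of_comp f₀ iY
  · intro hf
    haveI : IsSeparated (iX ≫ f) := by rw [← h]; infer_instance
    exact H12.isSeparated_of_surjective_universallyClosed (iX ≫ f) f iX rfl

theorem exists_pow_ker_eq_bot [IsClosedImmersion iY] [Surjective iY] [IsLocallyNoetherian Y] (U : Y.affineOpens) :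
    ∃ m : ℕ, iY.ker.ideal U ^ m = ⊥ := by
  haveI : IsNoetherianRing Γ(Y, U.1) := IsLocallyNoetherian.component_noetherian U
  obtain ⟨m, hm⟩ := Ideal.exists_pow_le_of_le_radical_of_fg (J := ⊥)
    (ker_le_nilradical iY Surjective.surj U) (IsNoetherian.noetherian _)
  exact ⟨m, le_bot_iff.1 hm⟩

theorem ker_app_eq (hsq : IsPullback iX f₀ f iY) [IsClosedImmersion iY] (U : Y.affineOpens) (V : X.affineOpens)
    (e : V.1 ≤ f ⁻¹ᵁ U.1) :
    RingHom.ker (iX.app V.1).hom = (iY.ker.ideal U).map (f.appLE U.1 V.1 e).hom := by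
  haveI : IsClosedImmersion iX := MorphismProperty.of_isPullback hsq.flip ‹_›
  rw [← EffCartier.comap_ideal _ _ _ _ e, ← ker_of_isPullback hsq, Scheme.Hom.ker_apply]

theorem locallyOfFiniteType_of_thickening (hsq : IsPullback iX f₀ f iY) [IsClosedImmersion iY] [Surjective iY]
    [IsLocallyNoetherian Y] [LocallyOfFiniteType f₀] : LocallyOfFiniteType f := by
  haveI : IsClosedImmersion iX := MorphismProperty.of_isPullback hsq.flip ‹_›
  haveI : LocallyOfFiniteType (iX ≫ f) := by rw [hsq.w]; infer_instance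
  refine ⟨fun {U} hU {V} hV e => ?_⟩
  obtain ⟨m, hm⟩ := exists_pow_ker_eq_bot (iY := iY) ⟨U, hU⟩
  have hker := ker_app_eq hsq ⟨U, hU⟩ ⟨V, hV⟩ e
  have hcomp : ((iX.app V).hom.comp (f.appLE U V e).hom).FiniteType := by
    have h1 := LocallyOfFiniteType.finiteType_appLE (f := iX ≫ f) hU (hV.preimage iX)
      (show iX ⁻¹ᵁ V ≤ (iX ≫ f) ⁻¹ᵁ U from fun x hx => e hx)
    rw [← Scheme.Hom.appLE_comp_appLE iX f U V (iX ⁻¹ᵁ V) e le_rfl, ← Scheme.Hom.app_eq_appLE] at h1
    exact h1
  refine AlgSpDescent.finiteType_of_nilpotent (φ := (f.appLE U V e).hom) (J := iY.ker.ideal ⟨U, hU⟩) (m := m)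
    (by rw [← Ideal.map_pow, hm, Ideal.map_bot]) ?_
  refine RingHom.FiniteType.of_comp_finiteType (f := Ideal.Quotient.mk _) ?_
  let eq₁ := (Ideal.quotEquivOfEq hker.symm).trans (RingHom.quotientKerEquivOfSurjective (iX.app_surjective V hV))
  have h3 := hcomp
  have h2 : eq₁.symm.toRingHom.comp ((iX.app V).hom.comp (f.appLE U V e).hom) =
      (Ideal.quotientMap ((iY.ker.ideal ⟨U, hU⟩).map (f.appLE U V e).hom) (f.appLE U V e).hom Ideal.le_comap_map).comp
        (Ideal.Quotient.mk _) := by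
    refine RingHom.ext fun a => eq₁.injective ?_
    simp only [RingHom.comp_apply, RingEquiv.toRingHom_eq_coe, RingEquiv.coe_toRingHom, RingEquiv.apply_symm_apply,
      Ideal.quotientMap_mk]
    rfl
  rw [← h2]
  exact (RingHom.FiniteType.of_surjective eq₁.symm.toRingHom eq₁.symm.surjective).comp hcomp

theorem isProper_of_thickening (hsq : IsPullback iX f₀ f iY) [IsClosedImmersion iY] [Surjective iY]
    [IsLocallyNoetherian Y] [IsProper f₀] : IsProper f := by
  haveI : IsClosedImmersion iX := MorphismProperty.of_isPullback hsq.flip ‹_›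
  haveI : Surjective iX := MorphismProperty.of_isPullback hsq.flip ‹_›
  haveI : IsSeparated f := (isSeparated_iff_of_thickening hsq.w.symm).2 inferInstance
  haveI : LocallyOfFiniteType f := locallyOfFiniteType_of_thickening hsq
  haveI : UniversallyClosed (iX ≫ f) := by rw [hsq.w]; infer_instance
  haveI : UniversallyClosed f := UniversallyClosed.of_comp_surjective iX f
  exact {}

theorem isFinite_of_thickening (hsq : IsPullback iX f₀ f iY) [IsClosedImmersion iY] [Surjective iY]
    [IsLocallyNoetherian Y] [IsFinite f₀] : IsFinite f := by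
  haveI : IsProper f := isProper_of_thickening hsq
  haveI : IsClosedImmersion iX := MorphismProperty.of_isPullback hsq.flip ‹_›
  haveI : Surjective iX := MorphismProperty.of_isPullback hsq.flip ‹_›
  haveI : LocallyQuasiFinite f := by
    rw [locallyQuasiFinite_iff_finite_preimage_singleton]
    intro y
    obtain ⟨y₀, rfl⟩ := iY.surjective y
    refine ((f₀.finite_preimage_singleton y₀).image iX).subset fun x hx => ?_
    obtain ⟨x₀, rfl⟩ := iX.surjective x
    refine ⟨x₀, iY.isClosedEmbedding.injective ?_, rfl⟩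
    exact (congrArg (fun φ : X₀ ⟶ Y => φ x₀) hsq.w).symm.trans hx
  exact IsFinite.of_isProper_of_locallyQuasiFinite f

theorem isClosedImmersion_of_thickening (hsq : IsPullback iX f₀ f iY) [IsClosedImmersion iY] [Surjective iY]
    [IsLocallyNoetherian Y] [IsClosedImmersion f₀] : IsClosedImmersion f := by
  haveI : IsFinite f := isFinite_of_thickening hsq
  haveI : IsClosedImmersion (iX ≫ f) := by rw [hsq.w]; infer_instance
  refine isClosedImmersion_iff_isAffineHom.2 ⟨inferInstance, fun U hU => ?_⟩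
  obtain ⟨m, hm⟩ := exists_pow_ker_eq_bot (iY := iY) ⟨U, hU⟩
  have hker := ker_app_eq hsq ⟨U, hU⟩ ⟨f ⁻¹ᵁ U, hU.preimage f⟩ le_rfl
  rw [← Scheme.Hom.app_eq_appLE] at hker
  have hfin : (f.app U).hom.Finite := IsFinite.finite_app f U hU
  letI := (f.app U).hom.toAlgebra
  haveI : Module.Finite Γ(Y, U) Γ(X, f ⁻¹ᵁ U) := hfin
  have hJ : iY.ker.ideal ⟨U, hU⟩ ≤ (⊥ : Ideal Γ(Y, U)).jacobson :=
    le_trans (ker_le_nilradical iY Surjective.surj ⟨U, hU⟩) Ideal.radical_le_jacobson
  intro b
  have htop : (⊤ : Submodule Γ(Y, U) Γ(X, f ⁻¹ᵁ U)) ≤ LinearMap.range (Algebra.linearMap Γ(Y, U) Γ(X, f ⁻¹ᵁ U)) := by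
    refine Submodule.le_of_le_smul_of_le_jacobson_bot Module.Finite.fg_top hJ fun x _ => ?_
    obtain ⟨a, ha⟩ := (iX ≫ f).app_surjective U hU (iX.app (f ⁻¹ᵁ U) x)
    refine Submodule.mem_sup.2 ⟨f.app U a, ⟨a, rfl⟩, x - f.app U a, ?_, add_sub_cancel _ _⟩
    rw [Ideal.smul_top_eq_map, Submodule.restrictScalars_mem]
    show x - f.app U a ∈ (iY.ker.ideal ⟨U, hU⟩).map (f.app U).hom
    rw [← hker, RingHom.mem_ker, map_sub, sub_eq_zero, ← ha]
    rfl
  exact htop (Submodule.mem_top (x := b))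

end Groth.Agent.FormalH7
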