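import Groth.Agent.Lib.EffCartier.Mul
import Groth.Agent.Lib.BlowUpExist.Local
import Groth.Prelude.Def_FSch3

/-!
# Ideal sheaves of closed immersions: composition, powers, affine schemes
-/

set_option autoImplicit false
universe u

open CategoryTheory CategoryTheory.Limits AlgebraicGeometry
open AlgebraicGeometry.Scheme.IdealSheafData


namespace Groth.Agent.FormalH7

variable {X Y Z X' : Scheme.{u}}

theorem ker_of_isPullback {iX : X ⟶ X'} {g : X ⟶ Z} {f : X' ⟶ Y} {iY : Z ⟶ Y} (h : IsPullback iX g f iY)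
    [IsClosedImmersion iY] : iX.ker = iY.ker.comap f := by
  rw [← ker_fst_of_isClosedImmersion, ← h.isoPullback_hom_fst, Scheme.Hom.ker_comp_of_isIso]

theorem comap_map_of_isClosedImmersion (i : X ⟶ Y) [IsClosedImmersion i] (K : X.IdealSheafData) :
    (K.map i).comap i = K := by
  have h : IsPullback K.subschemeι (𝟙 K.subscheme) i (K.subschemeι ≫ i) :=
    IsPullback.of_isLimit' ⟨(Category.id_comp _).symm⟩
      (PullbackCone.IsLimit.mk (fst := K.subschemeι) (snd := 𝟙 _) (Category.id_comp _).symm
        (fun s => s.snd)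
        (fun s => by rw [← cancel_mono i, Category.assoc]; exact s.condition.symm)
        (fun s => Category.comp_id _)
        (fun s m h1 h2 => by simpa using h2))
  exact (ker_of_isPullback h).symm.trans (ker_subschemeι K)

theorem comap_ker_self (i : X ⟶ Y) [IsClosedImmersion i] : i.ker.comap i = ⊥ := by
  have h := comap_map_of_isClosedImmersion i (⊥ : X.IdealSheafData)
  rwa [map_bot] at h

theorem comap_ker_comp (f : X ⟶ Y) (g : Y ⟶ Z) [IsClosedImmersion g] : (f ≫ g).ker.comap g = f.ker := by
  rw [Scheme.Hom.ker_comp, comap_map_of_isClosedImmersion]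

theorem ker_eq_comap_of_comp {f : X ⟶ Y} {g : Y ⟶ Z} [IsClosedImmersion g] {h : X ⟶ Z} (e : f ≫ g = h) :
    f.ker = h.ker.comap g := by
  rw [← e, comap_ker_comp]

theorem map_eq_of_ker_le (i : X ⟶ Y) [IsClosedImmersion i] (J : Y.IdealSheafData) (h : i.ker ≤ J) :
    (J.comap i).map i = J := by
  haveI : IsClosedImmersion i.toImage := inferInstance
  let l : J.subscheme ⟶ X := IsClosedImmersion.lift i J.subschemeι (by rwa [ker_subschemeι])
  have hl : l ≫ i = J.subschemeι := IsClosedImmersion.lift_fac _ _ _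
  have h2 : J.comap i = l.ker := by rw [ker_eq_comap_of_comp hl, ker_subschemeι]
  rw [h2, ← Scheme.Hom.ker_comp, hl, ker_subschemeι]

/-- A morphism with isomorphic image. -/
theorem ker_iso_comp (e : X ≅ X') (f : X' ⟶ Y) : (e.hom ≫ f).ker = f.ker :=
  Scheme.Hom.ker_comp_of_isIso _ _

theorem idealSpec_ideal_top (A : Type u) [CommRing A] (J : Ideal A) :
    (FSch.idealSpec A J).ideal ⟨⊤, isAffineOpen_top _⟩ = J.comap (Scheme.ΓSpecIso (CommRingCat.of A)).hom.hom := by
  rw [FSch.idealSpec, Scheme.Hom.ker_apply]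
  show RingHom.ker (Spec.map (CommRingCat.ofHom (Ideal.Quotient.mk J))).appTop.hom = _
  have h := Scheme.ΓSpecIso_naturality (CommRingCat.ofHom (Ideal.Quotient.mk J))
  refine Ideal.ext fun x => ?_
  rw [RingHom.mem_ker, Ideal.mem_comap]
  have h2 := congrArg (fun φ => φ.hom x) h
  simp only [CommRingCat.hom_comp, RingHom.comp_apply, CommRingCat.hom_ofHom] at h2
  constructor
  · intro hx
    rw [← Ideal.Quotient.eq_zero_iff_mem, ← h2, hx, map_zero]
  · intro hx
    rw [← Ideal.Quotient.eq_zero_iff_mem, ← h2] at hx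
    exact (Scheme.ΓSpecIso (CommRingCat.of (A ⧸ J))).commRingCatIsoToRingEquiv.injective (hx.trans (map_zero _).symm)

theorem idealSpec_ideal_top' (A : Type u) [CommRing A] (J : Ideal A) :
    (FSch.idealSpec A J).ideal ⟨⊤, isAffineOpen_top _⟩ = J.map (Scheme.ΓSpecIso (CommRingCat.of A)).inv.hom := by
  rw [idealSpec_ideal_top]
  exact (Ideal.map_comap_of_equiv (I := J) (Scheme.ΓSpecIso (CommRingCat.of A)).commRingCatIsoToRingEquiv.symm).symm

theorem idealSpec_mul (A : Type u) [CommRing A] (J K : Ideal A) :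
    FSch.idealSpec A (J * K) = FSch.idealSpec A J * FSch.idealSpec A K := by
  refine ext_of_isAffine ?_
  rw [ideal_mul, Pi.mul_apply, idealSpec_ideal_top', idealSpec_ideal_top', idealSpec_ideal_top', Ideal.map_mul]

theorem idealSpec_pow (A : Type u) [CommRing A] (J : Ideal A) (n : ℕ) :
    FSch.idealSpec A (J ^ n) = FSch.idealSpec A J ^ n := by
  refine ext_of_isAffine ?_
  rw [ideal_pow, Pi.pow_apply, idealSpec_ideal_top', idealSpec_ideal_top', Ideal.map_pow]

theorem comap_idealSpec (A B : Type u) [CommRing A] [CommRing B] (φ : B →+* A) (𝔟 : Ideal B) :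
    (FSch.idealSpec B 𝔟).comap (Spec.map (CommRingCat.ofHom φ)) = FSch.idealSpec A (𝔟.map φ) := by
  refine ext_of_isAffine ?_
  rw [EffCartier.comap_ideal_top, idealSpec_ideal_top', idealSpec_ideal_top', Ideal.map_map, Ideal.map_map]
  congr 1
  exact congrArg CommRingCat.Hom.hom (Scheme.ΓSpecIso_inv_naturality (CommRingCat.ofHom φ)).symm

theorem idealSpec_injective (A : Type u) [CommRing A] : Function.Injective (FSch.idealSpec A) := by
  intro J K h
  have h2 := congrArg (fun I => I.ideal ⟨⊤, isAffineOpen_top _⟩) h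
  simp only [idealSpec_ideal_top] at h2
  exact Ideal.comap_injective_of_surjective _
    (Scheme.ΓSpecIso (CommRingCat.of A)).commRingCatIsoToRingEquiv.surjective h2

theorem support_idealSpec (A : Type u) [CommRing A] (J : Ideal A) :
    ((FSch.idealSpec A J).support : Set (Spec (CommRingCat.of A))) = PrimeSpectrum.zeroLocus (J : Set A) := by
  rw [FSch.idealSpec, Scheme.Hom.support_ker]
  simp only [TopologicalSpace.Closeds.coe_closure]
  rw [IsClosed.closure_eq]
  · exact range_comap_of_surjective _ _ Ideal.Quotient.mk_surjective |>.trans (by simp [Ideal.mk_ker])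
  · exact (IsClosedImmersion.spec_of_surjective _ Ideal.Quotient.mk_surjective).base_closed.isClosed_range

end Groth.Agent.FormalH7
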