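import Groth.Agent.Lib.FormalH7.Nbhd
import Groth.Agent.Lib.FormalH7.Ideal
import Groth.Agent.Lib.FlatH4.LocCrit
import Groth.Agent.Lib.CurveCoh17.Bases
import Groth.Agent.Lib.ModM1.Fpqc
import Groth.Prelude.Def_RefHull
import Mathlib.AlgebraicGeometry.Morphisms.Proper
import Mathlib.RingTheory.LocalRing.Module

/-!
Local freeness read on the thickenings of a closed subscheme.
-/

universe u

open CategoryTheory Limits AlgebraicGeometry TopologicalSpace Opposite TensorProduct

set_option backward.isDefEq.respectTransparency false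

namespace Groth.Agent.FormalH7

variable {X Y : Scheme.{u}}

/-- A flat base change along a surjection, seen over the quotient. -/
theorem flat_quotient_tensor {R S M : Type u} [CommRing R] [CommRing S] [Algebra R S] [AddCommGroup M] [Module R M]
    (hs : Function.Surjective (algebraMap R S)) {I : Ideal R} (hI : RingHom.ker (algebraMap R S) = I)
    [Module.Flat S (S ⊗[R] M)] : Module.Flat (R ⧸ I) ((R ⧸ I) ⊗[R] M) := by
  subst hI
  let e : (R ⧸ RingHom.ker (algebraMap R S)) ≃ₐ[R] S :=
    Ideal.quotientKerAlgEquivOfSurjective (f := Algebra.ofId R S) hs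
  letI : Algebra (R ⧸ RingHom.ker (algebraMap R S)) S := e.toAlgHom.toRingHom.toAlgebra
  haveI : IsScalarTower R (R ⧸ RingHom.ker (algebraMap R S)) S :=
    IsScalarTower.of_algebraMap_eq fun r => (e.commutes r).symm
  let eL : (R ⧸ RingHom.ker (algebraMap R S)) ≃ₗ[R ⧸ RingHom.ker (algebraMap R S)] S :=
    LinearEquiv.ofBijective (Algebra.linearMap _ S) e.bijective
  haveI : Module.Flat (R ⧸ RingHom.ker (algebraMap R S)) S := Module.Flat.of_linearEquiv eL.symm
  haveI : Module.Flat (R ⧸ RingHom.ker (algebraMap R S)) (S ⊗[R] M) :=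
    Module.Flat.trans (R ⧸ RingHom.ker (algebraMap R S)) S (S ⊗[R] M)
  exact Module.Flat.of_linearEquiv (M := S ⊗[R] M) (AlgebraTensorModule.congr eL (LinearEquiv.refl R M))

/-- The stalk of the pullback of a module of rank `r`, as a tensor product. -/
theorem nonempty_tensor_stalk_equiv (f : Y ⟶ X) (M : X.Modules) (y : Y) {r : ℕ}
    (h : FlatMod.IsFinLocFreeOfRank r ((Scheme.Modules.pullback f).obj M)) :
    Nonempty (Y.presheaf.stalk y ⊗[X.presheaf.stalk (f y)] (M.presheaf.stalk (f y) : Type u) ≃ₗ[Y.presheaf.stalk y]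
      (Fin r → Y.presheaf.stalk y)) :=
  ⟨(M2.pullStalkEquiv f y M).trans (Classical.choice (CurveCoh17.nonempty_stalk_equiv h y))⟩

/-- The ideal of a closed subscheme at a point. -/
theorem ker_stalkMap_subscheme (I : X.IdealSheafData) (U : X.affineOpens) (d : I.subscheme)
    (hd : I.subschemeι d ∈ U.1) :
    RingHom.ker (I.subschemeι.stalkMap d).hom = (I.ideal U).map (X.presheaf.germ U.1 _ hd).hom := by
  let := TopCat.Presheaf.algebra_section_stalk X.presheaf (⟨I.subschemeι d, hd⟩ : U.1)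
  have := U.2.isLocalization_stalk ⟨I.subschemeι d, hd⟩
  refine le_antisymm (fun a ha => ?_) ?_
  · rw [RingHom.mem_ker] at ha
    obtain ⟨⟨r, s⟩, rs⟩ := IsLocalization.surj (U.2.primeIdealOf ⟨_, hd⟩).asIdeal.primeCompl a
    have hu : IsUnit (X.presheaf.germ U.1 _ hd s.1) := (M1.isUnit_germ_iff U.2 hd s.1).mpr s.2
    have hr : X.presheaf.germ U.1 _ hd r = a * X.presheaf.germ U.1 _ hd s.1 := rs.symm
    have hr0 : I.subschemeι.stalkMap d (X.presheaf.germ U.1 _ hd r) = 0 := by
      rw [hr]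
      exact (map_mul (I.subschemeι.stalkMap d).hom _ _).trans (by rw [ha, zero_mul])
    obtain ⟨e, he, hea⟩ := (SecDiv.mem_ker_stalkMap_iff I U d hd r).mp hr0
    have hm := Ideal.mem_map_of_mem (X.presheaf.germ U.1 _ hd).hom hea
    rw [map_mul, hr] at hm
    obtain ⟨v, hv⟩ := he.mul hu
    have : a = ↑v⁻¹ * (X.presheaf.germ U.1 _ hd e * (a * X.presheaf.germ U.1 _ hd s.1)) := by
      rw [mul_left_comm (X.presheaf.germ U.1 _ hd e) a, ← hv, mul_left_comm, Units.inv_mul, mul_one]
    rw [this]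
    exact Ideal.mul_mem_left _ _ hm
  · rw [Ideal.map_le_iff_le_comap]
    intro c hc
    rw [Ideal.mem_comap, RingHom.mem_ker]
    exact (SecDiv.mem_ker_stalkMap_iff I U d hd c).mpr ⟨1, by rw [map_one]; exact isUnit_one, by rwa [one_mul]⟩

/-- Free of rank `r` on every thickening implies free of rank `r` at the point. -/
theorem free_stalk_of_thickenings [IsLocallyNoetherian X] {M : X.Modules} (hM : Coh.IsQCoh M) (hM' : CohB1.IsFT M)
    (J : X.IdealSheafData) {r : ℕ}
    (h : ∀ n : ℕ, FlatMod.IsFinLocFreeOfRank r ((Scheme.Modules.pullback (J ^ (n + 1)).subschemeι).obj M))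
    {x : X} (hx : x ∈ (J.support : Set X)) :
    Module.Free (X.presheaf.stalk x) (M.presheaf.stalk x) ∧
      Module.finrank (X.presheaf.stalk x) (M.presheaf.stalk x : Type u) = r := by
  haveI := M1.finite_stalk hM hM' x
  obtain ⟨U, hU, hxU, -⟩ := exists_isAffineOpen_mem_and_subset (x := x) (U := ⊤) trivial
  let Jx := (J.ideal ⟨U, hU⟩).map (X.presheaf.germ U x hxU).hom
  have hker : ∀ n : ℕ, ∃ (S : Type u) (_ : CommRing S) (_ : Algebra (X.presheaf.stalk x) S),
      Function.Surjective (algebraMap (X.presheaf.stalk x) S) ∧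
      RingHom.ker (algebraMap (X.presheaf.stalk x) S) = Jx ^ (n + 1) ∧ Nontrivial S ∧
      Nonempty (S ⊗[X.presheaf.stalk x] (M.presheaf.stalk x : Type u) ≃ₗ[S] (Fin r → S)) := by
    intro n
    obtain ⟨d, rfl⟩ : x ∈ Set.range (J ^ (n + 1)).subschemeι := by
      rw [(J ^ (n + 1)).range_subschemeι, Scheme.IdealSheafData.support_pow_succ]
      exact hx
    refine ⟨_, inferInstance, M2.stAlg (J ^ (n + 1)).subschemeι d,
      (J ^ (n + 1)).subschemeι.stalkMap_surjective d, ?_, inferInstance,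
      nonempty_tensor_stalk_equiv _ M d (h n)⟩
    refine (ker_stalkMap_subscheme (J ^ (n + 1)) ⟨U, hU⟩ d hxU).trans ?_
    rw [Scheme.IdealSheafData.ideal_pow, Pi.pow_apply, Ideal.map_pow]
  haveI : Module.Flat (X.presheaf.stalk x) (M.presheaf.stalk x) := by
    refine FlatH4.flat_of_forall_flat_quotient_pow (S := X.presheaf.stalk x) Jx ?_ fun n hn => ?_
    · rw [Algebra.algebraMap_self, Ideal.map_id]
      refine le_trans ?_ (IsLocalRing.maximalIdeal_le_jacobson _)
      obtain ⟨S, _, _, hs, hk, hS, -⟩ := hker 0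
      rw [pow_one] at hk
      exact hk ▸ IsLocalRing.le_maximalIdeal (RingHom.ker_ne_top _)
    · obtain ⟨m, rfl⟩ := Nat.exists_eq_succ_of_ne_zero hn.ne'
      obtain ⟨S, _, _, hs, hk, -, ⟨e⟩⟩ := hker m
      haveI : Module.Flat S (S ⊗[X.presheaf.stalk x] (M.presheaf.stalk x : Type u)) :=
        Module.Flat.of_linearEquiv e
      exact flat_quotient_tensor hs hk
  haveI : Module.Free (X.presheaf.stalk x) (M.presheaf.stalk x) := Module.free_of_flat_of_isLocalRing
  refine ⟨inferInstance, ?_⟩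
  obtain ⟨S, _, _, -, -, _, ⟨e⟩⟩ := hker 0
  have := e.finrank_eq
  rwa [Module.finrank_baseChange, Module.finrank_pi, Fintype.card_fin] at this

/-- The free module has rank `n`. -/
theorem isFinLocFreeOfRank_freeMod (X : Scheme.{u}) (n : ℕ) : FlatMod.IsFinLocFreeOfRank n (FlatMod.freeMod X n) :=
  fun _ => ⟨⊤, trivial, ⟨(Scheme.Modules.restrictFunctor (⊤ : X.Opens).ι).mapIso (M1.freeModFrIso X n) ≪≫
    (M1.frRestrictIso (⊤ : X.Opens).ι _).symm ≪≫ (M1.freeModFrIso _ n).symm⟩⟩

/-- The local rank is the rank of the stalk. -/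
theorem rank_eq_of_iso {M : X.Modules} {U : X.Opens} {n r : ℕ}
    (e : M.restrict U.ι ≅ FlatMod.freeMod (U : Scheme.{u}) n) {z : X} (hz : z ∈ U)
    [Module.Free (X.presheaf.stalk z) (M.presheaf.stalk z)]
    (hr : Module.finrank (X.presheaf.stalk z) (M.presheaf.stalk z : Type u) = r) : n = r := by
  let e' : (Scheme.Modules.pullback U.ι).obj M ≅ FlatMod.freeMod (U : Scheme.{u}) n :=
    ((Scheme.Modules.restrictFunctorIsoPullback U.ι).app M).symm ≪≫ e
  let y : (U : Scheme.{u}) := ⟨z, hz⟩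
  haveI : Module.Free (X.presheaf.stalk (U.ι y)) (M.presheaf.stalk (U.ι y)) := ‹_›
  obtain ⟨eF⟩ := CurveCoh17.nonempty_stalk_equiv (isFinLocFreeOfRank_freeMod (U : Scheme.{u}) n) y
  have e1 := ((M2.pullStalkEquiv U.ι y M).trans
    ((LinearEquiv.ofBijective (RefHull.stalkMapₗ e'.hom y) ((M1.isIso_iff_stalk e'.hom).1 inferInstance y)).trans eF)).finrank_eq
  rw [Module.finrank_baseChange, Module.finrank_pi, Fintype.card_fin] at e1
  exact e1.symm.trans hr

/-- A coherent module free of rank `r` on all thickenings of a closed subset meeting every closed set is free of rank `r`. -/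
theorem isFinLocFreeOfRank_of_thickenings [IsLocallyNoetherian X] {M : X.Modules} (hM : Coh.IsCoh M)
    (J : X.IdealSheafData) {r : ℕ}
    (hJ : ∀ x : X, ∃ z ∈ closure ({x} : Set X), z ∈ (J.support : Set X))
    (h : ∀ n : ℕ, FlatMod.IsFinLocFreeOfRank r ((Scheme.Modules.pullback (J ^ (n + 1)).subschemeι).obj M)) :
    FlatMod.IsFinLocFreeOfRank r M := by
  intro x
  obtain ⟨z, hzx, hzJ⟩ := hJ x
  obtain ⟨hfree, hr⟩ := free_stalk_of_thickenings hM.1 hM.2 J h hzJ
  obtain ⟨U, n, hzU, ⟨e⟩⟩ := M1.exists_freeMod_of_free_stalk (M1.isFP_of_isCoh hM) z (hx := hfree)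
  obtain rfl := rank_eq_of_iso e hzU hr
  exact ⟨U, (specializes_iff_mem_closure.mpr hzx).mem_open U.2 hzU, ⟨e⟩⟩

/-- On a proper scheme over a complete Noetherian ring every closed set meets the special fibre. -/
theorem exists_closure_mem_support {A : Type u} [CommRing A] (I : Ideal A) [IsAdicComplete I A]
    (f : X ⟶ Spec (CommRingCat.of A)) [IsProper f] (x : X) :
    ∃ z ∈ closure ({x} : Set X), z ∈ (((FSch.idealSpec A I).comap f).support : Set X) := by
  haveI : CompactSpace X := QuasiCompact.compactSpace_of_compactSpace f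
  obtain ⟨z, hzx, hz⟩ := IsClosed.exists_closed_singleton (isClosed_closure (s := ({x} : Set X))) ⟨x, subset_closure rfl⟩
  refine ⟨z, hzx, ?_⟩
  rw [Scheme.IdealSheafData.support_comap, Closeds.coe_preimage, Set.mem_preimage, support_idealSpec]
  have hc : IsClosed ({f z} : Set (Spec (CommRingCat.of A))) := by
    rw [← Set.image_singleton]
    exact f.isClosedMap _ hz
  have hmax : (f z).asIdeal.IsMaximal := (PrimeSpectrum.isClosed_singleton_iff_isMaximal _).1 hc
  exact (IsAdicComplete.le_jacobson_bot I).trans (sInf_le ⟨bot_le, hmax⟩)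

end Groth.Agent.FormalH7
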