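import Groth.Agent.Lib.FormalH7.Sys

/-!
# Powers of ideal sheaves and supports on quasi-compact schemes
-/

set_option autoImplicit false
universe u

open CategoryTheory CategoryTheory.Limits AlgebraicGeometry
open AlgebraicGeometry.Scheme.IdealSheafData

namespace Groth.Agent.FormalH7

variable {X : Scheme.{u}}

/-- Glue a uniform exponent over a finite affine cover. -/
theorem exists_pow_le_of_cover [CompactSpace X] (I J : X.IdealSheafData)
    (h : ∀ x : X, ∃ U : X.affineOpens, x ∈ U.1 ∧ ∃ n : ℕ, I.ideal U ^ n ≤ J.ideal U) :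
    ∃ n : ℕ, I ^ (n + 1) ≤ J := by
  choose U hxU n hn using h
  obtain ⟨t, ht⟩ := isCompact_univ.elim_finite_subcover (fun x => ((U x).1 : Set X)) (fun x => (U x).1.isOpen)
    (fun x _ => Set.mem_iUnion.2 ⟨x, hxU x⟩)
  refine ⟨t.sup n, EffCartier.le_of_forall_exists fun x => ?_⟩
  obtain ⟨y, hy, hxy⟩ := Set.mem_iUnion₂.1 (ht (Set.mem_univ x))
  exact ⟨U y, hxy, (Ideal.pow_le_pow_right ((Finset.le_sup hy).trans (Nat.le_succ _))).trans (hn y)⟩

theorem exists_pow_le_of_support_le [CompactSpace X] [IsLocallyNoetherian X] (I J : X.IdealSheafData)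
    (h : (J.support : Set X) ⊆ I.support) : ∃ n : ℕ, I ^ (n + 1) ≤ J := by
  have hle : I ≤ J.radical := by
    rw [← vanishingIdeal_support, ← le_support_iff_le_vanishingIdeal]
    exact h
  refine exists_pow_le_of_cover I J fun x => ?_
  obtain ⟨_, ⟨U, hU, rfl⟩, hxU, -⟩ :=
    X.isBasis_affineOpens.exists_subset_of_mem_open (Set.mem_univ x) isOpen_univ
  haveI : IsNoetherianRing Γ(X, U) := IsLocallyNoetherian.component_noetherian ⟨U, hU⟩
  exact ⟨⟨U, hU⟩, hxU, Ideal.exists_pow_le_of_le_radical_of_fg (hle _) (IsNoetherian.noetherian _)⟩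

theorem exists_factor_thickening {Y T : Scheme.{u}} (J : Y.IdealSheafData) (hJ : FSch.IdealFT J)
    [CompactSpace T] (f : T ⟶ Y) (h : ∀ t : T, f t ∈ (J.support : Set Y)) :
    ∃ (n : ℕ) (g : T ⟶ (J ^ (n + 1)).subscheme), g ≫ (J ^ (n + 1)).subschemeι = f := by
  have hle : J.comap f ≤ (⊥ : T.IdealSheafData).radical := by
    rw [← vanishingIdeal_support, ← le_support_iff_le_vanishingIdeal, support_comap]
    exact fun t _ => h t
  obtain ⟨n, hn⟩ := exists_pow_le_of_cover (J.comap f) ⊥ fun x => by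
    obtain ⟨_, ⟨U, hU, rfl⟩, hxU, -⟩ :=
      Y.isBasis_affineOpens.exists_subset_of_mem_open (Set.mem_univ (f x)) isOpen_univ
    obtain ⟨_, ⟨V, hV, rfl⟩, hxV, hVU : V ≤ f ⁻¹ᵁ U⟩ :=
      T.isBasis_affineOpens.exists_subset_of_mem_open (show x ∈ f ⁻¹ᵁ U from hxU) (f ⁻¹ᵁ U).isOpen
    refine ⟨⟨V, hV⟩, hxV, Ideal.exists_pow_le_of_le_radical_of_fg (hle _) ?_⟩
    rw [EffCartier.comap_ideal _ _ ⟨U, hU⟩ ⟨V, hV⟩ hVU]
    exact Ideal.FG.map (hJ _) _
  have h1 : J ^ (n + 1) ≤ f.ker := by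
    rw [← map_bot f, le_map_iff_comap_le, BlowUpExist.comap_pow]
    exact hn
  exact ⟨n, IsClosedImmersion.lift _ f (by rwa [ker_subschemeι]), IsClosedImmersion.lift_fac _ _ _⟩

end Groth.Agent.FormalH7
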