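import Groth.Agent.Lib.TensorMod.PullStalk
import Groth.Agent.Lib.ModM1.Stalk
import Groth.Agent.Lib.ModM1.Exact
import Groth.Agent.Lib.SecDiv18.Factorial
import Mathlib.AlgebraicGeometry.Noetherian
import Mathlib.LinearAlgebra.TensorProduct.Quotient
import Mathlib.RingTheory.Nakayama
import Mathlib.RingTheory.Filtration

/-!
Pullbacks of module maps to closed subschemes, read on stalks; neighbourhoods of the support.
-/

universe u

open CategoryTheory Limits AlgebraicGeometry TopologicalSpace Opposite TensorProduct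

set_option backward.isDefEq.respectTransparency false

namespace Groth.Agent.FormalH7

variable {X Y : Scheme.{u}}

/-- The unit commutes with the pullback of a map, on sections. -/
theorem pullSec_naturality (f : Y ⟶ X) {F G : X.Modules} (φ : F ⟶ G) {U : X.Opens} (s : Γ(F, U)) :
    ((Scheme.Modules.pullback f).map φ).app (f ⁻¹ᵁ U) (M2.pullSec f F s) = M2.pullSec f G (φ.app U s) := by
  have h := congrArg (fun ψ => ψ.app U s) ((Scheme.Modules.pullbackPushforwardAdjunction f).unit.naturality φ)
  exact h.symm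

theorem tmul_one_eq_zero_mem {R S : Type u} [CommRing R] [CommRing S] [Algebra R S]
    (hs : Function.Surjective (algebraMap R S)) {M : Type u} [AddCommGroup M] [Module R M] (b : M)
    (h : (1 : S) ⊗ₜ[R] b = 0) : b ∈ RingHom.ker (algebraMap R S) • (⊤ : Submodule R M) := by
  let I : Ideal R := RingHom.ker (Algebra.ofId R S)
  let e : (R ⧸ I) ≃ₐ[R] S := Ideal.quotientKerAlgEquivOfSurjective (f := Algebra.ofId R S) hs
  have h1 := congrArg (TensorProduct.congr e.symm.toLinearEquiv (LinearEquiv.refl R M)) h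
  rw [TensorProduct.congr_tmul, map_zero] at h1
  simp only [AlgEquiv.toLinearEquiv_apply, map_one, LinearEquiv.refl_apply] at h1
  have h2 := congrArg (TensorProduct.quotTensorEquivQuotSMul M I) h1
  rw [TensorProduct.quotTensorEquivQuotSMul_mk_one_tmul, map_zero, Submodule.Quotient.mk_eq_zero] at h2
  exact h2

/-- The stalk map of a map of modules, into the stalk as a module. -/
noncomputable def stk {F G : X.Modules} (φ : F ⟶ G) (x : X) (a : F.presheaf.stalk x) : G.presheaf.stalk x :=
  (M1.stalkAb x).map φ a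

/-- If the pullback of a map is zero, the stalk map lands in the kernel of the stalk map times the module. -/
theorem stalk_mem_ker_smul (f : Y ⟶ X) {F G : X.Modules} (φ : F ⟶ G)
    (h : (Scheme.Modules.pullback f).map φ = 0) (y : Y) (hs : Function.Surjective (f.stalkMap y))
    (a : F.presheaf.stalk (f y)) :
    stk φ (f y) a ∈
      RingHom.ker (f.stalkMap y).hom • (⊤ : Submodule (X.presheaf.stalk (f y)) (G.presheaf.stalk (f y))) := by
  obtain ⟨U, hU, s, rfl⟩ := F.presheaf.germ_exist a
  refine tmul_one_eq_zero_mem (S := Y.presheaf.stalk y) hs _ ?_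
  refine (M2.pullStalkEquiv f y G).injective ?_
  rw [map_zero]
  have e : (M1.stalkAb (f y)).map φ (F.presheaf.germ U (f y) hU s) = G.presheaf.germ U (f y) hU (φ.app U s) :=
    M1.germ_naturality φ U (f y) hU s
  refine Eq.trans (congrArg (fun b : (G.presheaf.stalk (f y) : Type u) =>
    M2.pullStalkEquiv f y G (1 ⊗ₜ[X.presheaf.stalk (f y)] b)) e) ?_
  refine (M2.pullStalkEquiv_tmul f y G hU (φ.app U s)).trans ?_
  rw [← pullSec_naturality f φ s, h]
  exact map_zero _

/-- The kernel of the stalk map of a closed immersion, seen through a pullback of a zero map. -/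
theorem stalk_mem_maximalIdeal_smul (i : Y ⟶ X) [IsClosedImmersion i] {F G : X.Modules} (φ : F ⟶ G)
    (h : (Scheme.Modules.pullback i).map φ = 0) (y : Y) (a : F.presheaf.stalk (i y)) :
    stk φ (i y) a ∈
      IsLocalRing.maximalIdeal (X.presheaf.stalk (i y)) •
        (⊤ : Submodule (X.presheaf.stalk (i y)) (G.presheaf.stalk (i y))) :=
  Submodule.smul_mono_left (IsLocalRing.le_maximalIdeal (RingHom.ker_ne_top _))
    (stalk_mem_ker_smul i φ h y (i.stalkMap_surjective y) a)

/-- The kernel of the stalk map of the closed subscheme of `J ^ n` lies in the `n`-th power of the maximal ideal. -/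
theorem ker_stalkMap_pow_le (J : X.IdealSheafData) (n : ℕ) (d : (J ^ (n + 1)).subscheme) :
    RingHom.ker ((J ^ (n + 1)).subschemeι.stalkMap d).hom ≤
      IsLocalRing.maximalIdeal (X.presheaf.stalk ((J ^ (n + 1)).subschemeι d)) ^ (n + 1) := by
  have hx : (J ^ (n + 1)).subschemeι d ∈ (J.support : Set X) := by
    rw [← Scheme.IdealSheafData.support_pow_succ (I := J) n, ← (J ^ (n + 1)).range_subschemeι]
    exact ⟨d, rfl⟩
  generalize hI : J ^ (n + 1) = I at d hx ⊢
  obtain ⟨U, hU, hxU, -⟩ := exists_isAffineOpen_mem_and_subset (x := I.subschemeι d) (U := ⊤) trivial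
  let := TopCat.Presheaf.algebra_section_stalk X.presheaf (⟨I.subschemeι d, hxU⟩ : U)
  have := hU.isLocalization_stalk ⟨I.subschemeι d, hxU⟩
  intro a ha
  rw [RingHom.mem_ker] at ha
  obtain ⟨⟨r, s⟩, rs⟩ := IsLocalization.surj (hU.primeIdealOf ⟨_, hxU⟩).asIdeal.primeCompl a
  have hu : IsUnit (X.presheaf.germ U _ hxU s.1) := (M1.isUnit_germ_iff hU hxU s.1).mpr s.2
  have hr : X.presheaf.germ U _ hxU r = a * X.presheaf.germ U _ hxU s.1 := rs.symm
  have hr0 : I.subschemeι.stalkMap d (X.presheaf.germ U _ hxU r) = 0 := by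
    rw [hr]
    exact (map_mul (I.subschemeι.stalkMap d).hom _ _).trans (by rw [ha, zero_mul])
  obtain ⟨e, he, hea⟩ := (SecDiv.mem_ker_stalkMap_iff I ⟨U, hU⟩ d hxU r).mp hr0
  have hle : (J.ideal ⟨U, hU⟩).map (X.presheaf.germ U _ hxU).hom ≤
      IsLocalRing.maximalIdeal (X.presheaf.stalk (I.subschemeι d)) := by
    rw [Ideal.map_le_iff_le_comap]
    intro c hc
    change X.presheaf.germ U _ hxU c ∈ IsLocalRing.maximalIdeal _
    rw [IsLocalRing.mem_maximalIdeal]
    intro hcu
    have := (Scheme.IdealSheafData.mem_support_iff_of_mem (U := ⟨U, hU⟩) hxU).mp hx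
    rw [Scheme.mem_zeroLocus_iff] at this
    exact this c hc ((X.mem_basicOpen c _ hxU).mpr hcu)
  have hmem : X.presheaf.germ U _ hxU (e * r) ∈
      IsLocalRing.maximalIdeal (X.presheaf.stalk (I.subschemeι d)) ^ (n + 1) := by
    subst hI
    rw [Scheme.IdealSheafData.ideal_pow, Pi.pow_apply] at hea
    refine Ideal.pow_right_mono hle (n + 1) ?_
    rw [← Ideal.map_pow]
    exact Ideal.mem_map_of_mem _ hea
  rw [map_mul, hr] at hmem
  obtain ⟨v, hv⟩ := he.mul hu
  have : a = ↑v⁻¹ * (X.presheaf.germ U _ hxU e * (a * X.presheaf.germ U _ hxU s.1)) := by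
    rw [mul_left_comm (X.presheaf.germ U _ hxU e) a, ← hv, mul_left_comm, Units.inv_mul, mul_one]
  rw [this]
  exact Ideal.mul_mem_left _ _ hmem

/-- A map to a coherent module killed by all thickenings of `J` is zero on the stalks along `J`. -/
theorem stalk_eq_zero_of_thickenings [IsLocallyNoetherian X] {F G : X.Modules} (φ : F ⟶ G)
    (hG : Coh.IsQCoh G) (hG' : CohB1.IsFT G) (J : X.IdealSheafData)
    (h : ∀ n : ℕ, (Scheme.Modules.pullback (J ^ (n + 1)).subschemeι).map φ = 0) {x : X}
    (hx : x ∈ (J.support : Set X)) (a : F.presheaf.stalk x) :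
    stk φ x a = 0 := by
  haveI := M1.finite_stalk hG hG' x
  have key : ∀ n : ℕ, stk φ x a ∈
      IsLocalRing.maximalIdeal (X.presheaf.stalk x) ^ n •
        (⊤ : Submodule (X.presheaf.stalk x) (G.presheaf.stalk x)) := by
    intro n
    obtain _ | n := n
    · rw [pow_zero, Ideal.one_eq_top, Submodule.top_smul]; trivial
    · obtain ⟨d, rfl⟩ : x ∈ Set.range (J ^ (n + 1)).subschemeι := by
        rw [(J ^ (n + 1)).range_subschemeι, Scheme.IdealSheafData.support_pow_succ]
        exact hx
      exact Submodule.smul_mono_left (ker_stalkMap_pow_le J n d)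
        (stalk_mem_ker_smul _ φ (h n) d ((J ^ (n + 1)).subschemeι.stalkMap_surjective d) a)
  have := Ideal.iInf_pow_smul_eq_bot_of_isLocalRing (M := (G.presheaf.stalk x : Type u))
    (IsLocalRing.maximalIdeal (X.presheaf.stalk x)) (IsLocalRing.maximalIdeal.isMaximal _).ne_top
  exact (Submodule.eq_bot_iff _).mp this _ (Submodule.mem_iInf _ |>.mpr key)

/-- Off the support, a module is zero. -/
theorem isZero_restrict_of_disjoint_support {M : X.Modules} (U : X.Opens)
    (h : ∀ x ∈ U, x ∉ CohB1.support M) : IsZero (M.restrict U.ι) := by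
  rw [IsZero.iff_id_eq_zero]
  have h0 : ∀ (u : (U : Scheme.{u})) (a : (M.restrict U.ι).presheaf.stalk u), a = 0 := fun u =>
    (M1.notMem_support_iff (M.restrict U.ι) u).mp fun hu =>
      h (U.ι u) u.2 ((M1.subsingleton_stalk_restrict_iff U.ι M u).mp hu)
  haveI : Mono (0 : M.restrict U.ι ⟶ M.restrict U.ι) :=
    (M1.mono_iff_stalk _).mpr fun u a b _ => (h0 u a).trans (h0 u b).symm
  exact (cancel_mono (0 : M.restrict U.ι ⟶ M.restrict U.ι)).mp (by simp)

/-- A map from a coherent module killed by all thickenings vanishes near the support. -/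
theorem exists_nhd_map_eq_zero [IsLocallyNoetherian X] {F G : X.Modules} (hF : Coh.IsCoh F)
    (hG : Coh.IsCoh G) (φ : F ⟶ G) (J : X.IdealSheafData)
    (h : ∀ n : ℕ, (Scheme.Modules.pullback (J ^ (n + 1)).subschemeι).map φ = 0) :
    ∃ U : X.Opens, (J.support : Set X) ⊆ U ∧ (Scheme.Modules.restrictFunctor U.ι).map φ = 0 := by
  have hK : Coh.IsCoh (kernel φ) := M1.isCoh_kernel hF hG.1 φ
  have hC : Coh.IsCoh (cokernel (kernel.ι φ)) := M1.isCoh_cokernel hK.1 hF _
  let m : cokernel (kernel.ι φ) ⟶ G := cokernel.desc (kernel.ι φ) φ (kernel.condition φ)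
  haveI : Mono m := inferInstanceAs (Mono (Abelian.factorThruCoimage φ))
  refine ⟨⟨(CohB1.support (cokernel (kernel.ι φ)))ᶜ, (M1.isClosed_support hC.2).isOpen_compl⟩, fun x hx => ?_, ?_⟩
  · refine (M1.notMem_support_iff _ x).mpr fun c => ?_
    obtain ⟨a, rfl⟩ := (M1.epi_iff_stalk (cokernel.π (kernel.ι φ))).mp inferInstance x c
    refine (M1.mono_iff_stalk m).mp inferInstance x ?_
    rw [← M1.stalk_comp_apply, cokernel.π_desc]
    refine (stalk_eq_zero_of_thickenings φ hG.1 hG.2 J h hx a).trans ?_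
    exact (map_zero ((M1.stalkAb x).map m).hom).symm
  · let U : X.Opens := ⟨(CohB1.support (cokernel (kernel.ι φ)))ᶜ, (M1.isClosed_support hC.2).isOpen_compl⟩
    have hz := isZero_restrict_of_disjoint_support (M := cokernel (kernel.ι φ)) U fun x hx => hx
    have e : (Scheme.Modules.restrictFunctor U.ι).map φ =
        (Scheme.Modules.restrictFunctor U.ι).map (cokernel.π (kernel.ι φ)) ≫
          (Scheme.Modules.restrictFunctor U.ι).map m := by
      rw [← Functor.map_comp]
      exact congrArg _ (cokernel.π_desc _ _ _).symm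
    refine e.trans ?_
    rw [IsZero.eq_of_tgt hz ((Scheme.Modules.restrictFunctor U.ι).map (cokernel.π (kernel.ι φ))) 0, zero_comp]

/-- If the kernel inclusion dies on all thickenings, the map is a monomorphism near the support. -/
theorem exists_nhd_mono [IsLocallyNoetherian X] {F G : X.Modules} (hF : Coh.IsCoh F) (hG : Coh.IsCoh G)
    (φ : F ⟶ G) (J : X.IdealSheafData)
    (h : ∀ n : ℕ, (Scheme.Modules.pullback (J ^ (n + 1)).subschemeι).map (kernel.ι φ) = 0) :
    ∃ U : X.Opens, (J.support : Set X) ⊆ U ∧ Mono ((Scheme.Modules.restrictFunctor U.ι).map φ) := by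
  have hK : Coh.IsCoh (kernel φ) := M1.isCoh_kernel hF hG.1 φ
  let U : X.Opens := ⟨(CohB1.support (kernel φ))ᶜ, (M1.isClosed_support hK.2).isOpen_compl⟩
  refine ⟨U, fun x hx => ?_, ?_⟩
  · refine (M1.notMem_support_iff _ x).mpr fun c => ?_
    refine (M1.mono_iff_stalk (kernel.ι φ)).mp inferInstance x ?_
    exact (stalk_eq_zero_of_thickenings (kernel.ι φ) hF.1 hF.2 J h hx c).trans
      (map_zero ((M1.stalkAb x).map (kernel.ι φ)).hom).symm
  · have hz := isZero_restrict_of_disjoint_support (M := kernel φ) U fun x hx => hx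
    refine Preadditive.mono_of_kernel_zero ?_
    exact IsZero.eq_of_src (IsZero.of_iso hz (PreservesKernel.iso (Scheme.Modules.restrictFunctor U.ι) φ).symm) _ _

/-- If the cokernel projection dies on all thickenings, the map is an epimorphism near the support. -/
theorem exists_nhd_epi [IsLocallyNoetherian X] {F G : X.Modules} (hF : Coh.IsCoh F) (hG : Coh.IsCoh G)
    (φ : F ⟶ G) (J : X.IdealSheafData)
    (h : ∀ n : ℕ, (Scheme.Modules.pullback (J ^ (n + 1)).subschemeι).map (cokernel.π φ) = 0) :
    ∃ U : X.Opens, (J.support : Set X) ⊆ U ∧ Epi ((Scheme.Modules.restrictFunctor U.ι).map φ) := by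
  have hC : Coh.IsCoh (cokernel φ) := M1.isCoh_cokernel hF.1 hG φ
  let U : X.Opens := ⟨(CohB1.support (cokernel φ))ᶜ, (M1.isClosed_support hC.2).isOpen_compl⟩
  refine ⟨U, fun x hx => ?_, ?_⟩
  · refine (M1.notMem_support_iff _ x).mpr fun c => ?_
    obtain ⟨a, rfl⟩ := (M1.epi_iff_stalk (cokernel.π φ)).mp inferInstance x c
    exact stalk_eq_zero_of_thickenings (cokernel.π φ) hC.1 hC.2 J h hx a
  · have hz := isZero_restrict_of_disjoint_support (M := cokernel φ) U fun x hx => hx
    refine Preadditive.epi_of_cokernel_zero ?_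
    exact IsZero.eq_of_tgt (IsZero.of_iso hz (PreservesCokernel.iso (Scheme.Modules.restrictFunctor U.ι) φ).symm) _ _

/-- Surjectivity onto a quasi-coherent module of finite type is detected on a surjective closed immersion. -/
theorem epi_iff_epi_pullback (i : Y ⟶ X) [IsClosedImmersion i] [Surjective i] {F G : X.Modules}
    (hF : Coh.IsQCoh F) (hG : Coh.IsQCoh G) (hG' : CohB1.IsFT G) (φ : F ⟶ G) :
    Epi φ ↔ Epi ((Scheme.Modules.pullback i).map φ) := by
  haveI := (Scheme.Modules.pullback i).preservesEpimorphisms_of_adjunction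
    (Scheme.Modules.pullbackPushforwardAdjunction i)
  refine ⟨fun h => inferInstance, fun h => ?_⟩
  have hπ : (Scheme.Modules.pullback i).map (cokernel.π φ) = 0 := by
    rw [← cancel_epi ((Scheme.Modules.pullback i).map φ), ← Functor.map_comp, cokernel.condition, Functor.map_zero,
      comp_zero]
  have hC := M1.isQCoh_cokernel hF hG φ
  have hC' : CohB1.IsFT (cokernel φ) := M1.isFT_of_epi (cokernel.π φ) hG'
  have hz : ∀ (x : X) (c : (cokernel φ).presheaf.stalk x), c = 0 := by
    intro x c
    obtain ⟨y, rfl⟩ := i.surjective x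
    haveI := M1.finite_stalk hC hC' (i y)
    have key : (⊤ : Submodule (X.presheaf.stalk (i y)) ((cokernel φ).presheaf.stalk (i y))) ≤
        IsLocalRing.maximalIdeal (X.presheaf.stalk (i y)) • ⊤ := fun b _ => by
      obtain ⟨a, rfl⟩ := (M1.epi_iff_stalk (cokernel.π φ)).mp inferInstance (i y) b
      exact stalk_mem_maximalIdeal_smul i (cokernel.π φ) hπ y a
    have := Submodule.eq_bot_of_le_smul_of_le_jacobson_bot _ _ Module.Finite.fg_top key
      (IsLocalRing.maximalIdeal_le_jacobson _)
    exact (Submodule.eq_bot_iff _).mp this c trivial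
  refine Preadditive.epi_of_cokernel_zero ?_
  haveI : Mono (0 : cokernel φ ⟶ cokernel φ) :=
    (M1.mono_iff_stalk _).mpr fun x a b _ => (hz x a).trans (hz x b).symm
  rw [← cancel_mono (0 : cokernel φ ⟶ cokernel φ), comp_zero, comp_zero]

end Groth.Agent.FormalH7
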