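import Groth.Agent.Lib.FormalH7.ModLim

/-!
The short exact sequence of quotients by powers of a regular element.
-/

universe u

open CategoryTheory CategoryTheory.Limits AlgebraicGeometry Opposite

set_option backward.isDefEq.respectTransparency false

namespace Groth.Agent.FormalH7

variable {A : Type u} [CommRing A] {X : Scheme.{u}} [X.Over (Spec (CommRingCat.of A))] (f : A)

/-- On stalks the kernel of the projection to the quotient by a power consists of multiples of the power. -/
theorem exists_of_stalk_modPowπ_eq_zero (F : X.Modules) (k : ℕ) (x : X) (b : F.presheaf.stalk x)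
    (hb : (M1.stalkAb x).map (Formal.modPowπ (Ideal.span {f}) k F) b = 0) :
    ∃ c, (M1.stalkAb x).map (Formal.smulMod A F (f ^ k)) c = b := by
  have hi : IsIso (cokernel.desc (Formal.smulFamily (Ideal.span {f} ^ k) F) (Formal.modPowπ (Ideal.span {f}) k F) (cokernel.condition _)) := by
    have : cokernel.desc (Formal.smulFamily (Ideal.span {f} ^ k) F) (Formal.modPowπ (Ideal.span {f}) k F) (cokernel.condition _) = 𝟙 _ := by
      refine coequalizer.hom_ext ?_
      rw [cokernel.π_desc]
      exact (Category.comp_id _).symm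
    rw [this]
    exact IsIso.id _
  have hm := mem_stalk_of_map_eq_zero (Formal.modPowπ (Ideal.span {f}) k F) (cokernel.condition _) hi x b hb
  rw [stalkIdeal, Ideal.span_singleton_pow, Ideal.map_span, Set.image_singleton, Submodule.ideal_span_singleton_smul] at hm
  obtain ⟨c, -, hc⟩ := (Submodule.mem_smul_pointwise_iff_exists _ _ _).mp hm
  exact ⟨c, (stalk_smulMod F _ x c).trans hc⟩

theorem exists_shortExact_modPow (F : X.Modules) (hF : Mono (Formal.smulMod A F f)) (n : ℕ) :
    ∃ i : Formal.modPow (Ideal.span ({f} : Set A)) 1 F ⟶ Formal.modPow (Ideal.span ({f} : Set A)) (n + 1) F,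
      Mono i ∧ Formal2.modPowLE (Ideal.span ({f} : Set A)) (Nat.le_add_left 1 n) F ≫ i =
        Formal.smulMod A (Formal.modPow (Ideal.span ({f} : Set A)) (n + 1) F) (f ^ n) ∧
      ∃ w : i ≫ Formal.modPowTrans (Ideal.span ({f} : Set A)) n F = 0,
        (ShortComplex.mk i (Formal.modPowTrans (Ideal.span ({f} : Set A)) n F) w).ShortExact := by
  set I := Ideal.span ({f} : Set A) with hI
  have hkill : ∀ m, ∀ a ∈ I ^ m, Formal.smulMod A F a ≫ Formal.modPowπ I m F = 0 := fun m =>
    (smulFamily_comp_eq_zero_iff _).1 (cokernel.condition (Formal.smulFamily (I ^ m) F))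
  have h0 : Formal.smulFamily (I ^ 1) F ≫ Formal.smulMod A F (f ^ n) ≫ Formal.modPowπ I (n + 1) F = 0 := by
    refine (smulFamily_comp_eq_zero_iff _).2 fun a ha => ?_
    rw [← Category.assoc, ← smulMod_mul]
    exact hkill (n + 1) _ (by rw [pow_succ]; exact Ideal.mul_mem_mul (Ideal.pow_mem_pow (Ideal.mem_span_singleton_self f) n) (by simpa using ha))
  let i : Formal.modPow I 1 F ⟶ Formal.modPow I (n + 1) F := cokernel.desc _ _ h0
  have hi : Formal.modPowπ I 1 F ≫ i = Formal.smulMod A F (f ^ n) ≫ Formal.modPowπ I (n + 1) F := cokernel.π_desc _ _ _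
  have w : i ≫ Formal.modPowTrans I n F = 0 := by
    refine (cancel_epi (Formal.modPowπ I 1 F)).1 ?_
    rw [← Category.assoc, hi, Category.assoc, Formal.modPowπ_trans, comp_zero]
    exact hkill n _ (Ideal.pow_mem_pow (Ideal.mem_span_singleton_self f) n)
  have stk : ∀ {M N P : X.Modules} (φ : M ⟶ N) (ψ : N ⟶ P) (x : X) (b : M.presheaf.stalk x),
      (M1.stalkAb x).map (φ ≫ ψ) b = (M1.stalkAb x).map ψ ((M1.stalkAb x).map φ b) := fun φ ψ x b => by
    rw [Functor.map_comp]; rfl
  have hmono : Mono i := by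
    rw [M1.mono_iff_stalk]
    intro x
    rw [injective_iff_map_eq_zero]
    intro b hb
    obtain ⟨b, rfl⟩ := (M1.epi_iff_stalk (Formal.modPowπ I 1 F)).1 inferInstance x b
    rw [← stk, hi, stk] at hb
    obtain ⟨c, hc⟩ := exists_of_stalk_modPowπ_eq_zero f F (n + 1) x _ hb
    rw [show f ^ (n + 1) = f * f ^ n from pow_succ' f n, smulMod_mul, stk] at hc
    rw [← stk, ← smulMod_naturality, stk] at hc
    have hinj : ∀ m, Function.Injective ((M1.stalkAb x).map (Formal.smulMod A F (f ^ m))) := by
      intro m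
      induction m with
      | zero => rw [pow_zero, smulMod_one, CategoryTheory.Functor.map_id]; exact fun _ _ h => h
      | succ m ih =>
        intro p q h
        rw [stalk_smulMod_pow_succ, stalk_smulMod_pow_succ] at h
        exact (M1.mono_iff_stalk _).1 hF x (ih h)
    rw [← hinj n hc, ← stk]
    rw [hkill 1 f (by rw [pow_one]; exact Ideal.mem_span_singleton_self f), Functor.map_zero]
    rfl
  have hepi : Epi (Formal.modPowTrans I n F) := by
    refine @epi_of_epi _ _ _ _ _ (Formal.modPowπ I (n + 1) F) _ ?_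
    rw [Formal.modPowπ_trans]
    infer_instance
  refine ⟨i, hmono, ?_, w, { exact := ?_, mono_f := hmono, epi_g := hepi }⟩
  · refine (cancel_epi (Formal.modPowπ I (n + 1) F)).1 ?_
    rw [← Category.assoc, Formal2.modPowπ_modPowLE, hi, smulMod_naturality]
  · rw [M1.exact_iff_stalk_eq_zero]
    intro x b hb
    obtain ⟨b, rfl⟩ := (M1.epi_iff_stalk (Formal.modPowπ I (n + 1) F)).1 inferInstance x b
    dsimp only at hb ⊢
    rw [← stk, Formal.modPowπ_trans] at hb
    obtain ⟨c, rfl⟩ := exists_of_stalk_modPowπ_eq_zero f F n x b hb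
    exact ⟨(M1.stalkAb x).map (Formal.modPowπ I 1 F) c, by rw [← stk, hi, stk]⟩

end Groth.Agent.FormalH7
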