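import Groth.Agent.Lib.FormalH7.ModSec

/-!
Systems whose multiplication by a base element factors through the transition maps.
-/

universe u

open CategoryTheory CategoryTheory.Limits AlgebraicGeometry Opposite

set_option backward.isDefEq.respectTransparency false

namespace Groth.Agent.FormalH7

variable {A : Type u} [CommRing A] {X : Scheme.{u}} [X.Over (Spec (CommRingCat.of A))]

/-- The limit identifies a finitely generated quasi-coherent system with a completion. -/
theorem nonempty_completion_limit_iso {I : Ideal A} {G : ℕᵒᵖ ⥤ X.Modules} (hI : I.FG) (hG : Formal2.IsQCohFormal I G) :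
    Nonempty (Formal.completion I (limit G) ≅ G) := by
  let ψ : ∀ n, Formal.modPow I (n + 1) (limit G) ⟶ G.obj (op n) := fun n =>
    cokernel.desc _ (limit.π G (op n)) (limit_truncation hI hG.1 hG.2.1 hG.2.2 n).fst
  haveI hi : ∀ n, IsIso (ψ n) := fun n => (limit_truncation hI hG.1 hG.2.1 hG.2.2 n).snd
  have hπ : ∀ n, Formal.modPowπ I (n + 1) (limit G) ≫ ψ n = limit.π G (op n) := fun n => cokernel.π_desc _ _ _
  let α : Formal.completion I (limit G) ⟶ G := NatTrans.ofOpSequence ψ fun n => by
    simp only [Formal.completion, Functor.ofOpSequence_map_homOfLE_succ]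
    refine (cancel_epi (Formal.modPowπ I (n + 1 + 1) (limit G))).1 ?_
    refine ((Category.assoc _ _ _).symm.trans (congrArg (· ≫ ψ n) (Formal.modPowπ_trans I (n + 1) _))).trans ?_
    refine (hπ n).trans ?_
    refine Eq.trans ?_ (Category.assoc _ _ _)
    refine Eq.trans ?_ (congrArg (· ≫ G.map (homOfLE (Nat.le_succ n)).op) (hπ (n + 1))).symm
    exact (limit.w G _).symm
  haveI : ∀ k, IsIso (α.app k) := fun ⟨n⟩ => hi n
  haveI : IsIso α := NatIso.isIso_of_isIso_app α
  exact ⟨asIso α⟩

section factor

variable {G : ℕᵒᵖ ⥤ X.Modules} (f : A)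

/-- Multiplication on a stalk. -/
theorem stalk_smulMod (M : X.Modules) (a : A) (x : X) (b : M.presheaf.stalk x) :
    (M1.stalkAb x).map (Formal.smulMod A M a) b =
      ((X.presheaf.germ ⊤ x trivial).hom.comp (multHom X ⊤) a) • (b : M.presheaf.stalk x) := by
  obtain ⟨U, hxU, s, rfl⟩ := M.presheaf.exists_germ_eq b
  refine (M1.germ_naturality _ U x hxU s).trans ?_
  rw [smulMod_app, M1.germ_smul, germ_mult hxU]
  rfl

/-- Multiplication by a power, as an iterate. -/
theorem stalk_smulMod_pow_succ (M : X.Modules) (k : ℕ) (x : X) (b : M.presheaf.stalk x) :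
    (M1.stalkAb x).map (Formal.smulMod A M (f ^ (k + 1))) b =
      (M1.stalkAb x).map (Formal.smulMod A M (f ^ k)) ((M1.stalkAb x).map (Formal.smulMod A M f) b) := by
  rw [stalk_smulMod, stalk_smulMod, stalk_smulMod, pow_succ, map_mul, mul_smul]

theorem smulMod_one (M : X.Modules) : Formal.smulMod A M 1 = 𝟙 M := by
  refine Scheme.Modules.hom_ext _ _ fun U => ?_
  ext s
  rw [smulMod_app, ← multHom_apply, map_one, one_smul]
  rfl

theorem smulMod_mul (M : X.Modules) (a b : A) :
    Formal.smulMod A M (a * b) = Formal.smulMod A M b ≫ Formal.smulMod A M a := by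
  refine Scheme.Modules.hom_ext _ _ fun U => ?_
  ext s
  rw [Scheme.Modules.Hom.comp_app, CategoryTheory.comp_apply, smulMod_app, smulMod_app, smulMod_app,
    ← multHom_apply, ← multHom_apply, ← multHom_apply, map_mul, mul_smul]

theorem killedBy_span_pow {M : X.Modules} {k : ℕ} (h : Formal.smulMod A M (f ^ k) = 0) :
    Formal.KilledBy (Ideal.span {f} ^ k) M := fun a ha => by
  rw [Ideal.span_singleton_pow, Ideal.mem_span_singleton'] at ha
  obtain ⟨c, rfl⟩ := ha
  rw [smulMod_mul, h, zero_comp]

variable (hqc : ∀ n : ℕᵒᵖ, Coh.IsQCoh (G.obj n))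
  (h1 : ∀ n : ℕ, ∃ i : G.obj (op n) ⟶ G.obj (op (n + 1)), Mono i ∧
    G.map (homOfLE (Nat.le_succ n)).op ≫ i = Formal.smulMod A (G.obj (op (n + 1))) f ∧
    ∃ w : i ≫ G.map (homOfLE (Nat.zero_le (n + 1))).op = 0,
      (ShortComplex.mk i (G.map (homOfLE (Nat.zero_le (n + 1))).op) w).ShortExact)

include h1

theorem pow_smul_zero : ∀ n, Formal.smulMod A (G.obj (op n)) (f ^ (n + 1)) = 0 := by
  intro n
  induction n with
  | zero =>
    obtain ⟨i, _, hfi, w, hS⟩ := h1 0
    haveI : Epi (gm G (Nat.zero_le 1)) := hS.epi_g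
    rw [pow_one, ← cancel_epi (gm G (Nat.zero_le 1)), ← smulMod_naturality, ← hfi, Category.assoc, comp_zero]
    exact (congrArg (_ ≫ ·) w).trans comp_zero
  | succ n ih =>
    obtain ⟨i, _, hfi, -, -⟩ := h1 n
    rw [pow_succ, smulMod_mul, ← hfi, Category.assoc, ← smulMod_naturality, ih, zero_comp, comp_zero]

/-- The transition maps are surjective with kernels the powers of the element, on stalks. -/
theorem stalk_surjective_and_ker (x : X) : ∀ n,
    Function.Surjective ((M1.stalkAb x).map (gm G (Nat.le_succ n))) ∧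
    ∀ b, (M1.stalkAb x).map (gm G (Nat.le_succ n)) b = 0 →
      ∃ e, (M1.stalkAb x).map (Formal.smulMod A (G.obj (op (n + 1))) (f ^ (n + 1))) e = b := by
  intro n
  induction n with
  | zero =>
    obtain ⟨i, _, hfi, w, hS⟩ := h1 0
    haveI : Epi (gm G (Nat.zero_le 1)) := hS.epi_g
    refine ⟨(M1.epi_iff_stalk (gm G (Nat.zero_le 1))).1 inferInstance x, fun b hb => ?_⟩
    obtain ⟨c, hc⟩ := M1.exact_elem hS.exact x b hb
    obtain ⟨e, rfl⟩ := (M1.epi_iff_stalk (gm G (Nat.zero_le 1))).1 inferInstance x c
    refine ⟨e, ?_⟩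
    rw [show f ^ (0 + 1) = f from pow_one f, ← hfi, Functor.map_comp, CategoryTheory.comp_apply]
    exact hc
  | succ n ih =>
    obtain ⟨i, _, hfi, w, hS⟩ := h1 n
    obtain ⟨j, _, hfj, v, hT⟩ := h1 (n + 1)
    have hcomp : gm G (Nat.le_succ (n + 1)) ≫ gm G (Nat.zero_le (n + 1)) = gm G (Nat.zero_le (n + 1 + 1)) :=
      gm_comp G _ _
    let T := (M1.stalkAb x).map (gm G (Nat.le_succ (n + 1)))
    have hstep : ∀ b, ∃ a d, b = T a + (M1.stalkAb x).map (Formal.smulMod A (G.obj (op (n + 1))) f) d := by
      intro b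
      haveI : Epi (gm G (Nat.zero_le (n + 1 + 1))) := hT.epi_g
      obtain ⟨a, ha⟩ := (M1.epi_iff_stalk (gm G (Nat.zero_le (n + 1 + 1)))).1 inferInstance x
        ((M1.stalkAb x).map (gm G (Nat.zero_le (n + 1))) b)
      rw [← hcomp, Functor.map_comp, CategoryTheory.comp_apply] at ha
      obtain ⟨c, hc⟩ := M1.exact_elem hS.exact x (b - T a) (by
        rw [map_sub, sub_eq_zero]; exact ha.symm)
      obtain ⟨d, rfl⟩ := ih.1 c
      refine ⟨a, d, ?_⟩
      rw [← hfi, Functor.map_comp, CategoryTheory.comp_apply]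
      rw [eq_comm, ← eq_sub_iff_add_eq']
      exact hc
    refine ⟨fun b => ?_, fun b hb => ?_⟩
    · have key : ∀ k, ∃ a d, b = T a + (M1.stalkAb x).map (Formal.smulMod A (G.obj (op (n + 1))) (f ^ k)) d := by
        intro k
        induction k with
        | zero =>
          refine ⟨0, b, ?_⟩
          rw [pow_zero, map_zero, zero_add, smulMod_one, CategoryTheory.Functor.map_id]
          rfl
        | succ k ihk =>
          obtain ⟨a, d, rfl⟩ := ihk
          obtain ⟨a', d', rfl⟩ := hstep d
          refine ⟨a + (M1.stalkAb x).map (Formal.smulMod A (G.obj (op (n + 1 + 1))) (f ^ k)) a', d', ?_⟩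
          rw [stalk_smulMod_pow_succ, map_add, map_add, add_assoc]
          congr 2
          simp only [T]
          rw [← CategoryTheory.comp_apply, ← CategoryTheory.comp_apply, ← Functor.map_comp, ← Functor.map_comp,
            smulMod_naturality]
      obtain ⟨a, d, rfl⟩ := key (n + 2)
      refine ⟨a, ?_⟩
      rw [pow_smul_zero f h1 (n + 1), Functor.map_zero]
      exact (add_zero _).symm
    · have hb0 : (M1.stalkAb x).map (gm G (Nat.zero_le (n + 1 + 1))) b = 0 := by
        rw [← hcomp, Functor.map_comp, CategoryTheory.comp_apply, hb, map_zero]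
      obtain ⟨c, rfl⟩ := M1.exact_elem hT.exact x b hb0
      have hjc : (M1.stalkAb x).map (gm G (Nat.le_succ (n + 1)) ≫ j) ((M1.stalkAb x).map j c) = 0 := by
        rw [Functor.map_comp, CategoryTheory.comp_apply, hb, map_zero]
      rw [hfj, ← CategoryTheory.comp_apply, ← Functor.map_comp, ← smulMod_naturality, Functor.map_comp,
        CategoryTheory.comp_apply] at hjc
      have hfc : (M1.stalkAb x).map (Formal.smulMod A (G.obj (op (n + 1))) f) c = 0 :=
        (M1.mono_iff_stalk j).1 inferInstance x (hjc.trans (map_zero _).symm)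
      rw [← hfi, Functor.map_comp, CategoryTheory.comp_apply] at hfc
      obtain ⟨d, rfl⟩ := ih.2 c ((M1.mono_iff_stalk i).1 inferInstance x (hfc.trans (map_zero _).symm))
      -- lift `d` along the surjection just proved
      obtain ⟨e, rfl⟩ : ∃ e, T e = d := by
        have key : ∀ k, ∃ a d', d = T a + (M1.stalkAb x).map (Formal.smulMod A (G.obj (op (n + 1))) (f ^ k)) d' := by
          intro k
          induction k with
          | zero =>
            refine ⟨0, d, ?_⟩
            rw [pow_zero, map_zero, zero_add, smulMod_one, CategoryTheory.Functor.map_id]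
            rfl
          | succ k ihk =>
            obtain ⟨a, d₁, rfl⟩ := ihk
            obtain ⟨a', d', rfl⟩ := hstep d₁
            refine ⟨a + (M1.stalkAb x).map (Formal.smulMod A (G.obj (op (n + 1 + 1))) (f ^ k)) a', d', ?_⟩
            rw [stalk_smulMod_pow_succ, map_add, map_add, add_assoc]
            congr 2
            simp only [T]
            rw [← CategoryTheory.comp_apply, ← CategoryTheory.comp_apply, ← Functor.map_comp, ← Functor.map_comp,
              smulMod_naturality]
        obtain ⟨a, d', rfl⟩ := key (n + 2)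
        refine ⟨a, ?_⟩
        rw [pow_smul_zero f h1 (n + 1), Functor.map_zero]
        exact (add_zero _).symm
      refine ⟨e, ?_⟩
      rw [stalk_smulMod_pow_succ, ← hfj, Functor.map_comp, CategoryTheory.comp_apply, ← CategoryTheory.comp_apply,
        ← CategoryTheory.comp_apply (C := AddCommGrpCat), ← Functor.map_comp, ← smulMod_naturality, Functor.map_comp]
      rfl

include hqc

theorem isQCohFormal_span : Formal2.IsQCohFormal (Ideal.span {f}) G := by
  refine ⟨fun n => hqc _, fun n => killedBy_span_pow f (pow_smul_zero f h1 n), fun n => ?_⟩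
  have hs : Formal.smulFamily (Ideal.span {f} ^ (n + 1)) (G.obj (op (n + 1))) ≫ G.map (homOfLE (Nat.le_succ n)).op = 0 :=
    smulFamily_comp_of_killed _ (killedBy_span_pow f (pow_smul_zero f h1 n))
  refine ⟨hs, ?_⟩
  rw [M1.isIso_iff_stalk]
  intro x
  obtain ⟨hsurj, hker⟩ := stalk_surjective_and_ker f h1 x n
  constructor
  · rw [injective_iff_map_eq_zero]
    intro c hc
    obtain ⟨b, rfl⟩ := (M1.epi_iff_stalk (cokernel.π (Formal.smulFamily (Ideal.span {f} ^ (n + 1)) (G.obj (op (n + 1)))))).1 inferInstance x c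
    rw [← CategoryTheory.comp_apply, ← Functor.map_comp, cokernel.π_desc] at hc
    obtain ⟨e, rfl⟩ := hker b hc
    rw [← CategoryTheory.comp_apply, ← Functor.map_comp,
      (smulFamily_comp_eq_zero_iff _).1 (cokernel.condition _) _ (Ideal.pow_mem_pow (Ideal.mem_span_singleton_self f) _),
      Functor.map_zero]
    rfl
  · intro b
    obtain ⟨a, rfl⟩ := hsurj b
    refine ⟨(M1.stalkAb x).map (cokernel.π _) a, ?_⟩
    rw [← CategoryTheory.comp_apply, ← Functor.map_comp, cokernel.π_desc]

omit hqc in
theorem mono_smulMod_limit : Mono (Formal.smulMod A (limit G) f) := by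
  rw [M1.mono_iff_app]
  intro U
  rw [injective_iff_map_eq_zero]
  intro l hl
  refine limit_section_ext G U l fun n => ?_
  obtain ⟨i, _, hfi, -, -⟩ := h1 n
  refine M1.app_injective i U ?_
  rw [map_zero]
  have e : limit.π G (op n) ≫ i = Formal.smulMod A (limit G) f ≫ limit.π G (op (n + 1)) := by
    rw [smulMod_naturality, ← hfi, ← limit.w G (homOfLE (Nat.le_succ n)).op, Category.assoc]
  have h2 := congrArg (fun φ => φ.app U l) e
  simp only [Scheme.Modules.Hom.comp_app, CategoryTheory.comp_apply] at h2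
  rw [h2, hl, map_zero]

theorem exists_torsionFree_completion_iso :
    ∃ F : X.Modules, Mono (Formal.smulMod A F f) ∧ Nonempty (Formal.completion (Ideal.span ({f} : Set A)) F ≅ G) :=
  ⟨limit G, mono_smulMod_limit f h1,
    nonempty_completion_limit_iso ⟨{f}, by simp⟩ (isQCohFormal_span f hqc h1)⟩

end factor

end Groth.Agent.FormalH7
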