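import Groth.Prelude.Def_FSch3
import Groth.Agent.Lib.FormalH7.CplRing
import Groth.Agent.Lib.FlatH4.LocCrit
import Groth.Agent.Lib.H12.SepDesc
import Mathlib.RingTheory.Flat.EquationalCriterion
import Mathlib.RingTheory.Flat.FaithfullyFlat.Algebra

/-!
# The stalk rings `A_{S}` of an affine formal scheme
-/

set_option autoImplicit false
universe u

open FSch AdicCompletion

namespace Groth.Agent.FormalH7

variable (A : Type u) [CommRing A] (J : Ideal A) (𝔭 : Ideal A) [𝔭.IsPrime]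

local notation "Af" f => Localization.Away (f : A)
local notation "Ap" => Localization.AtPrime 𝔭

theorem evalₐ_complMap {S T : Type u} [CommRing S] [CommRing T] (I : Ideal S) (K : Ideal T) (g : S →+* T)
    (h : I.map g ≤ K) (n : ℕ) (x : AdicCompletion I S) :
    evalₐ K n (complMap I K g h x) =
      Ideal.quotientMap (K ^ n) g (pow_le_comap_pow_of_map_le I K g h n) (evalₐ I n x) := by
  simp only [complMap]
  apply evalₐ_liftRingHom
  intro m n hle
  refine RingHom.ext fun x => ?_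
  obtain ⟨y, rfl⟩ := AdicCompletion.mk_surjective I S x
  simp only [RingHom.coe_comp, Function.comp_apply, AlgHom.toRingHom_eq_coe, AlgHom.coe_toRingHom,
    AdicCompletion.evalₐ_mk, Ideal.quotientMap_mk, Ideal.Quotient.factorPow, Ideal.Quotient.factor_mk]
  rw [Ideal.Quotient.eq]
  have hy := y.2 hle
  rw [SModEq.sub_mem] at hy
  simp only [smul_eq_mul, Ideal.mul_top] at hy
  rw [← map_sub]
  exact pow_le_comap_pow_of_map_le I K g h m (by simpa using (I ^ m).neg_mem hy)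

theorem complMap_algebraMap {S T : Type u} [CommRing S] [CommRing T] (I : Ideal S) (K : Ideal T) (g : S →+* T)
    (h : I.map g ≤ K) (x : S) :
    complMap I K g h (algebraMap S _ x) = algebraMap T _ (g x) :=
  ext_evalₐ fun n => by
    rw [evalₐ_complMap, AlgHom.commutes, AlgHom.commutes, Ideal.Quotient.algebraMap_eq, Ideal.Quotient.algebraMap_eq,
      Ideal.quotientMap_mk]

theorem range_le (f g : A) (hf : f ∉ 𝔭) (hfg : f * g ∉ 𝔭) :
    ∀ y : cAway A J f, ∃ y' : cAway A J (f * g),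
      cAwayToAtPrime A J 𝔭 (f * g) hfg y' = cAwayToAtPrime A J 𝔭 f hf y ∧
      (∀ n, ∀ z : Af f, evalₐ _ n y = Ideal.Quotient.mk _ z → evalₐ _ n y' =
        Ideal.Quotient.mk _ (IsLocalization.Away.lift f (g := algebraMap A (Af (f * g)))
          (IsLocalization.Away.isUnit_of_dvd (f * g) (Dvd.intro g rfl)) z)) := by
  intro y
  have hu : IsUnit (algebraMap A (Af (f * g)) f) := IsLocalization.Away.isUnit_of_dvd (f * g) (Dvd.intro g rfl)
  let ρ : (Af f) →+* (Af (f * g)) := IsLocalization.Away.lift f hu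
  have hρ : ρ.comp (algebraMap A (Af f)) = algebraMap A (Af (f * g)) := IsLocalization.Away.lift_comp f hu
  have hle : (J.map (algebraMap A (Af f))).map ρ ≤ J.map (algebraMap A (Af (f * g))) := by
    rw [Ideal.map_map, hρ]
  have hcomp : (awayToAtPrime A 𝔭 (f * g) hfg).comp ρ = awayToAtPrime A 𝔭 f hf := by
    refine IsLocalization.ringHom_ext (Submonoid.powers f) ?_
    rw [RingHom.comp_assoc, hρ]
    ext a
    simp [awayToAtPrime]
  refine ⟨complMap _ _ ρ hle y, ext_evalₐ fun n => ?_, fun n z hz => ?_⟩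
  · simp only [cAwayToAtPrime]; rw [evalₐ_complMap, evalₐ_complMap, evalₐ_complMap]
    obtain ⟨z, hz⟩ := Ideal.Quotient.mk_surjective (evalₐ _ n y)
    rw [← hz, Ideal.quotientMap_mk, Ideal.quotientMap_mk, Ideal.quotientMap_mk]
    exact congrArg _ (RingHom.congr_fun hcomp z)
  · rw [evalₐ_complMap, hz, Ideal.quotientMap_mk]

theorem one_notMem : (1 : A) ∉ 𝔭 := fun h => Ideal.IsPrime.ne_top' ((Ideal.eq_top_iff_one _).2 h)

theorem mem_stalkSubring_iff (x : cAtPrime A J 𝔭) :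
    x ∈ stalkSubring A J 𝔭 ↔ ∃ (f : A) (hf : f ∉ 𝔭) (y : cAway A J f), cAwayToAtPrime A J 𝔭 f hf y = x := by
  haveI : Nonempty {f : A // f ∉ 𝔭} := ⟨⟨1, one_notMem A 𝔭⟩⟩
  rw [stalkSubring, Subring.mem_iSup_of_directed]
  · exact ⟨fun ⟨f, y, hy⟩ => ⟨f.1, f.2, y, hy⟩, fun ⟨f, hf, y, hy⟩ => ⟨⟨f, hf⟩, y, hy⟩⟩
  · intro f g
    have hfg : f.1 * g.1 ∉ 𝔭 := Ideal.IsPrime.mul_notMem ‹_› f.2 g.2
    refine ⟨⟨f.1 * g.1, hfg⟩, ?_, ?_⟩
    · rintro _ ⟨y, rfl⟩
      obtain ⟨y', hy', -⟩ := range_le A J 𝔭 f.1 g.1 f.2 hfg y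
      exact ⟨y', hy'⟩
    · rintro _ ⟨y, rfl⟩
      have hgf : g.1 * f.1 ∉ 𝔭 := by rwa [mul_comm]
      obtain ⟨y', hy', -⟩ := range_le A J 𝔭 g.1 f.1 g.2 hgf y
      have : ∀ a b : A, ∀ (ha : a ∉ 𝔭) (hb : b ∉ 𝔭), a = b → ∀ z : cAway A J a,
          cAwayToAtPrime A J 𝔭 a ha z ∈ (cAwayToAtPrime A J 𝔭 b hb).range := by
        rintro a b ha hb rfl z; exact ⟨z, rfl⟩
      rw [← hy']
      exact this _ _ hgf hfg (mul_comm _ _) y'

theorem exists_common {l : ℕ} (s : Fin l → cAtPrime A J 𝔭) (hs : ∀ i, s i ∈ stalkSubring A J 𝔭) :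
    ∃ (f : A) (hf : f ∉ 𝔭) (y : Fin l → cAway A J f), ∀ i, cAwayToAtPrime A J 𝔭 f hf (y i) = s i := by
  induction l with
  | zero => exact ⟨1, one_notMem A 𝔭, Fin.elim0, fun i => i.elim0⟩
  | succ l ih =>
    obtain ⟨f, hf, y, hy⟩ := ih (fun i => s i.succ) (fun i => hs _)
    obtain ⟨g, hg, z, hz⟩ := (mem_stalkSubring_iff A J 𝔭 _).1 (hs 0)
    have hfg : f * g ∉ 𝔭 := Ideal.IsPrime.mul_notMem ‹_› hf hg
    have hgf : g * f ∉ 𝔭 := Ideal.IsPrime.mul_notMem ‹_› hg hf
    have key : ∀ a b : A, ∀ (ha : a ∉ 𝔭) (hb : b ∉ 𝔭), a = b → ∀ z : cAway A J a,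
        ∃ z', cAwayToAtPrime A J 𝔭 b hb z' = cAwayToAtPrime A J 𝔭 a ha z := by
      rintro a b ha hb rfl z; exact ⟨z, rfl⟩
    obtain ⟨z', hz', -⟩ := range_le A J 𝔭 g f hg hgf z
    obtain ⟨z'', hz''⟩ := key _ _ hgf hfg (mul_comm g f) z'
    choose y' hy' _ using fun i => range_le A J 𝔭 f g hf hfg (y i)
    refine ⟨f * g, hfg, Fin.cons z'' y', fun i => ?_⟩
    induction i using Fin.cases with
    | zero => rw [Fin.cons_zero, hz'', hz', hz]
    | succ i => rw [Fin.cons_succ, hy', hy]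

section Local

variable {A J 𝔭}
variable (hJ : J ≤ 𝔭)
include hJ

theorem map_le_maximal : J.map (algebraMap A Ap) ^ 1 ≤ IsLocalRing.maximalIdeal Ap := by
  rw [pow_one, Ideal.map_le_iff_le_comap]
  exact hJ.trans_eq (IsLocalization.AtPrime.comap_maximalIdeal Ap 𝔭).symm

theorem isUnit_iff_mk (z : Ap) :
    IsUnit (Ideal.Quotient.mk (J.map (algebraMap A Ap) ^ 1) z) ↔ IsUnit z := by
  refine ⟨fun h => ?_, fun h => h.map _⟩
  obtain ⟨w, hw⟩ := Ideal.Quotient.mk_surjective (↑h.unit⁻¹ : Ap ⧸ J.map (algebraMap A Ap) ^ 1)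
  by_contra hz
  have h1 : z * w - 1 ∈ J.map (algebraMap A Ap) ^ 1 := by
    rw [← Ideal.Quotient.eq, map_mul, hw, map_one]
    exact h.mul_val_inv
  exact (IsLocalRing.maximalIdeal.isMaximal _).ne_top ((Ideal.eq_top_iff_one _).2 (by
    have := sub_mem (Ideal.mul_mem_right w _ ((IsLocalRing.mem_maximalIdeal z).2 hz)) (map_le_maximal hJ h1)
    rwa [sub_sub_cancel] at this))

theorem isLocalHom_evalₐ : IsLocalHom (evalₐ (J.map (algebraMap A Ap)) 1).toRingHom :=
  ⟨fun _ h => isUnit_of_isUnit_evalₐ _ h⟩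

theorem isLocalRing_cAtPrime : IsLocalRing (cAtPrime A J 𝔭) := by
  haveI : Nontrivial (Ap ⧸ J.map (algebraMap A Ap) ^ 1) := Ideal.Quotient.nontrivial_iff.2 fun h =>
    (IsLocalRing.maximalIdeal.isMaximal Ap).ne_top (top_le_iff.1 (h.ge.trans (map_le_maximal hJ)))
  haveI : IsLocalRing (Ap ⧸ J.map (algebraMap A Ap) ^ 1) :=
    IsLocalRing.of_surjective' _ Ideal.Quotient.mk_surjective
  haveI := isLocalHom_evalₐ (A := A) hJ
  exact RingHom.domain_isLocalRing (evalₐ (J.map (algebraMap A Ap)) 1).toRingHom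

theorem isUnit_subtype {x : cAtPrime A J 𝔭} (hx : x ∈ stalkSubring A J 𝔭) (hu : IsUnit x) :
    IsUnit (⟨x, hx⟩ : stalkSubring A J 𝔭) := by
  obtain ⟨f, hf, y, rfl⟩ := (mem_stalkSubring_iff A J 𝔭 x).1 hx
  obtain ⟨z, hz⟩ := Ideal.Quotient.mk_surjective (evalₐ (J.map (algebraMap A (Af f))) 1 y)
  obtain ⟨k, a, ha⟩ := IsLocalization.Away.surj f z
  have h1 : IsUnit (awayToAtPrime A 𝔭 f hf z) := by
    rw [← isUnit_iff_mk hJ]
    have := hu.map (evalₐ (J.map (algebraMap A Ap)) 1).toRingHom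
    simp only [cAwayToAtPrime, AlgHom.toRingHom_eq_coe, AlgHom.coe_toRingHom] at this
    rw [evalₐ_complMap, ← hz,
      Ideal.quotientMap_mk] at this
    exact this
  have ha' : a ∉ 𝔭 := by
    have h2 : IsUnit (algebraMap A Ap a) := by
      have h3 := congrArg (awayToAtPrime A 𝔭 f hf) ha
      simp only [map_mul, map_pow] at h3
      have hco : ∀ b : A, awayToAtPrime A 𝔭 f hf (algebraMap A (Af f) b) = algebraMap A Ap b :=
        fun b => by simp [awayToAtPrime]
      rw [hco, hco] at h3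
      rw [← h3]
      exact h1.mul ((IsLocalization.map_units Ap (⟨f, hf⟩ : 𝔭.primeCompl)).pow k)
    exact ((IsLocalization.AtPrime.isUnit_to_map_iff Ap 𝔭 a).1 h2)
  have hfa : f * a ∉ 𝔭 := Ideal.IsPrime.mul_notMem ‹_› hf ha'
  obtain ⟨y', hy', hy''⟩ := range_le A J 𝔭 f a hf hfa y
  have h4 := hy'' 1 z hz.symm
  have huy : IsUnit y' := by
    refine isUnit_of_isUnit_evalₐ _ ?_
    rw [h4]
    refine IsUnit.map (Ideal.Quotient.mk _) ?_
    have h5 := congrArg (IsLocalization.Away.lift f (g := algebraMap A (Af (f * a)))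
      (IsLocalization.Away.isUnit_of_dvd (f * a) (Dvd.intro a rfl))) ha
    simp only [map_mul, map_pow, IsLocalization.Away.lift_eq] at h5
    exact isUnit_of_mul_isUnit_left (h5 ▸ IsLocalization.Away.isUnit_of_dvd (f * a) (Dvd.intro_left f rfl))
  obtain ⟨w, hw⟩ := isUnit_iff_exists_inv.1 huy
  refine IsUnit.of_mul_eq_one
    ⟨cAwayToAtPrime A J 𝔭 (f * a) hfa w, (mem_stalkSubring_iff A J 𝔭 _).2 ⟨f * a, hfa, w, rfl⟩⟩ (Subtype.ext ?_)
  show cAwayToAtPrime A J 𝔭 f hf y * _ = 1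
  rw [← hy', ← map_mul, hw, map_one]

theorem isLocalHom_subtype : IsLocalHom (stalkSubring A J 𝔭).subtype :=
  ⟨fun x h => isUnit_subtype hJ x.2 h⟩

theorem isLocalRing_stalkSubring : IsLocalRing (stalkSubring A J 𝔭) := by
  haveI := isLocalRing_cAtPrime hJ
  haveI := isLocalHom_subtype hJ
  exact RingHom.domain_isLocalRing (stalkSubring A J 𝔭).subtype

end Local

section Residue

variable {A J 𝔭}

theorem residue_surjective (hJ : J ≤ 𝔭) [IsLocalRing (cAtPrime A J 𝔭)] (x : cAtPrime A J 𝔭) :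
    ∃ z : Ap, IsLocalRing.residue _ (algebraMap Ap (cAtPrime A J 𝔭) z) = IsLocalRing.residue _ x := by
  obtain ⟨z, hz⟩ := Ideal.Quotient.mk_surjective (evalₐ (J.map (algebraMap A Ap)) 1 x)
  refine ⟨z, ?_⟩
  rw [← sub_eq_zero, ← map_sub, IsLocalRing.residue_eq_zero_iff, IsLocalRing.mem_maximalIdeal]
  intro h
  have h2 := h.map (evalₐ (J.map (algebraMap A Ap)) 1)
  rw [map_sub, AlgHom.commutes, Ideal.Quotient.algebraMap_eq, hz, sub_self, isUnit_zero_iff] at h2
  haveI : Nontrivial (Ap ⧸ J.map (algebraMap A Ap) ^ 1) := Ideal.Quotient.nontrivial_iff.2 fun h =>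
    (IsLocalRing.maximalIdeal.isMaximal Ap).ne_top (top_le_iff.1 (h.ge.trans (map_le_maximal hJ)))
  exact zero_ne_one h2

theorem exists_mem_stalkSubring (z : Ap) :
    ∃ t : stalkSubring A J 𝔭, (t : cAtPrime A J 𝔭) = algebraMap Ap _ z := by
  obtain ⟨a, s, rfl⟩ := IsLocalization.exists_mk'_eq 𝔭.primeCompl z
  refine ⟨⟨cAwayToAtPrime A J 𝔭 s.1 s.2 (algebraMap (Af s.1) _
    (algebraMap A (Af s.1) a * IsLocalization.Away.invSelf s.1)),
    (mem_stalkSubring_iff A J 𝔭 _).2 ⟨s.1, s.2, _, rfl⟩⟩, ?_⟩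
  show cAwayToAtPrime A J 𝔭 s.1 s.2 _ = _
  simp only [cAwayToAtPrime]; rw [complMap_algebraMap]
  congr 1
  rw [IsLocalization.eq_mk'_iff_mul_eq]
  have hco : ∀ b : A, awayToAtPrime A 𝔭 s.1 s.2 (algebraMap A (Af s.1) b) = algebraMap A Ap b :=
    fun b => by simp [awayToAtPrime]
  rw [← hco s.1, ← map_mul, mul_assoc, mul_comm (IsLocalization.Away.invSelf _), IsLocalization.Away.mul_invSelf,
    mul_one, hco]

end Residue

section Noetherian

variable {A J 𝔭}
variable [IsNoetherianRing A]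

theorem flat_cAwayToAtPrime (hJ : J ≤ 𝔭) (f : A) (hf : f ∉ 𝔭) : (cAwayToAtPrime A J 𝔭 f hf).Flat := by
  haveI : IsNoetherianRing (Af f) := IsLocalization.isNoetherianRing (Submonoid.powers f) _ inferInstance
  haveI : IsNoetherianRing Ap := IsLocalization.isNoetherianRing 𝔭.primeCompl _ inferInstance
  set If := J.map (algebraMap A (Af f))
  set Ip := J.map (algebraMap A Ap)
  have hfgf : If.FG := IsNoetherian.noetherian _
  have hfgp : Ip.FG := IsNoetherian.noetherian _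
  haveI := Compl.isNoetherianRing_adicCompletion If hfgf
  haveI := Compl.isNoetherianRing_adicCompletion Ip hfgp
  have hIeq : If.map (awayToAtPrime A 𝔭 f hf) = Ip := by
    rw [Ideal.map_map]; congr 1; ext a; simp [awayToAtPrime]
  have hg : (awayToAtPrime A 𝔭 f hf).Flat := by
    letI := (awayToAtPrime A 𝔭 f hf).toAlgebra
    haveI : IsScalarTower A (Af f) Ap := IsScalarTower.of_algebraMap_eq fun a => by
      show _ = awayToAtPrime A 𝔭 f hf _
      simp [awayToAtPrime]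
    exact (Module.flat_iff_of_isLocalization (Af f) (Submonoid.powers f) Ap).2 inferInstance
  let φ := cAwayToAtPrime A J 𝔭 f hf
  letI := φ.toAlgebra
  set IR := If.map (algebraMap (Af f) (cAway A J f)) with hIR
  have hIS : ∀ n, (IR ^ n).map φ = (Ip ^ n).map (algebraMap Ap (cAtPrime A J 𝔭)) := fun n => by
    rw [Ideal.map_pow, Ideal.map_pow, hIR, Ideal.map_map]
    congr 1
    rw [← hIeq, Ideal.map_map (I := If)]
    congr 1
  show Module.Flat (cAway A J f) (cAtPrime A J 𝔭)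
  refine FlatH4.flat_of_forall_flat_quotient_pow (S := cAtPrime A J 𝔭) IR ?_ fun n hn => ?_
  · haveI := AdicCompletion.isAdicComplete_self Ip hfgp
    have h1 := hIS 1
    rw [pow_one, pow_one] at h1
    show IR.map φ ≤ _
    rw [h1]
    exact IsAdicComplete.le_jacobson_bot _
  · have hq : (Ideal.quotientMap ((IR ^ n).map φ) φ Ideal.le_comap_map).Flat := by
      let e₁ : cAway A J f ⧸ IR ^ n ≃+* (Af f) ⧸ If ^ n :=
        (Ideal.quotEquivOfEq (by rw [hIR, Ideal.map_pow])).trans (cplQuotEquiv If hfgf n)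
      let e₂ : cAtPrime A J 𝔭 ⧸ (IR ^ n).map φ ≃+* Ap ⧸ Ip ^ n :=
        (Ideal.quotEquivOfEq (hIS n)).trans (cplQuotEquiv Ip hfgp n)
      let e₃ : Ap ⧸ (If ^ n).map (awayToAtPrime A 𝔭 f hf) ≃+* Ap ⧸ Ip ^ n :=
        Ideal.quotEquivOfEq (by rw [Ideal.map_pow, hIeq])
      have he : Ideal.quotientMap ((IR ^ n).map φ) φ Ideal.le_comap_map =
          ((e₂.symm.toRingHom.comp e₃.toRingHom).comp
            (Ideal.quotientMap ((If ^ n).map (awayToAtPrime A 𝔭 f hf)) (awayToAtPrime A 𝔭 f hf) Ideal.le_comap_map)).comp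
            e₁.toRingHom := by
        refine Ideal.Quotient.ringHom_ext (RingHom.ext fun y => e₂.injective ?_)
        simp only [RingHom.comp_apply, RingEquiv.toRingHom_eq_coe, RingEquiv.coe_toRingHom, RingEquiv.apply_symm_apply,
          Ideal.quotientMap_mk]
        obtain ⟨z, hz⟩ := Ideal.Quotient.mk_surjective (evalₐ If n y)
        have h1 : e₁ (Ideal.Quotient.mk _ y) = Ideal.Quotient.mk _ z := by rw [hz]; rfl
        have h2 : e₂ (Ideal.Quotient.mk _ (φ y)) = evalₐ Ip n (φ y) := rfl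
        rw [h1, h2, Ideal.quotientMap_mk]
        show evalₐ Ip n (complMap _ _ _ _ y) = _
        rw [evalₐ_complMap, ← hz, Ideal.quotientMap_mk]
        rfl
      rw [he]
      exact (RingHom.Flat.of_bijective e₁.bijective).comp
        (((flat_quotientMap _ hg)).comp
          ((RingHom.Flat.of_bijective e₃.bijective).comp (RingHom.Flat.of_bijective e₂.symm.bijective)))
    haveI : Module.Flat (cAway A J f ⧸ IR ^ n) (cAtPrime A J 𝔭 ⧸ (IR ^ n).map (algebraMap (cAway A J f) (cAtPrime A J 𝔭))) := by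
      have e : Ideal.quotientMap ((IR ^ n).map φ) φ Ideal.le_comap_map =
          algebraMap (cAway A J f ⧸ IR ^ n) (cAtPrime A J 𝔭 ⧸ (IR ^ n).map (algebraMap (cAway A J f) (cAtPrime A J 𝔭))) :=
        Ideal.Quotient.ringHom_ext (RingHom.ext fun r => rfl)
      rw [e] at hq
      exact RingHom.flat_algebraMap_iff.1 hq
    exact Module.Flat.of_linearEquiv
      (Algebra.TensorProduct.quotIdealMapEquivQuotTensor (cAtPrime A J 𝔭) (IR ^ n)).toLinearEquiv.symm

theorem flat_stalkSubring (hJ : J ≤ 𝔭) : Module.Flat (stalkSubring A J 𝔭) (cAtPrime A J 𝔭) := by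
  rw [Module.Flat.iff_forall_isTrivialRelation]
  intro l c x hx
  obtain ⟨f, hf, y, hy⟩ := exists_common A J 𝔭 (fun i => (c i : cAtPrime A J 𝔭)) (fun i => (c i).2)
  let φ := cAwayToAtPrime A J 𝔭 f hf
  letI := φ.toAlgebra
  haveI : Module.Flat (cAway A J f) (cAtPrime A J 𝔭) := flat_cAwayToAtPrime hJ f hf
  have hx' : ∑ i, y i • x i = 0 := by
    rw [← hx]
    exact Finset.sum_congr rfl fun i _ => by
      show φ (y i) * x i = (c i : cAtPrime A J 𝔭) * x i
      rw [hy]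
  obtain ⟨k, a, z, h1, h2⟩ := Module.Flat.isTrivialRelation_of_sum_smul_eq_zero hx'
  refine ⟨k, fun i j => ⟨φ (a i j), (mem_stalkSubring_iff A J 𝔭 _).2 ⟨f, hf, _, rfl⟩⟩, z, fun i => ?_, fun j => ?_⟩
  · rw [h1 i]; rfl
  · refine Subtype.ext ?_
    have h3 := congrArg φ (h2 j)
    rw [map_sum, _root_.map_zero] at h3
    rw [AddSubmonoidClass.coe_finset_sum, ZeroMemClass.coe_zero, ← h3]
    exact Finset.sum_congr rfl fun i _ => by
      show (c i : cAtPrime A J 𝔭) * φ (a i j) = φ (y i * a i j)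
      rw [map_mul, hy]

theorem faithfullyFlat_stalkSubring (hJ : J ≤ 𝔭) :
    Module.FaithfullyFlat (stalkSubring A J 𝔭) (cAtPrime A J 𝔭) := by
  haveI := flat_stalkSubring hJ
  haveI := isLocalRing_cAtPrime hJ
  haveI := isLocalRing_stalkSubring hJ
  haveI : IsLocalHom (algebraMap (stalkSubring A J 𝔭) (cAtPrime A J 𝔭)) :=
    ⟨fun x h => isUnit_subtype hJ x.2 h⟩
  exact Module.FaithfullyFlat.of_flat_of_isLocalHom

theorem isNoetherianRing_stalkSubring (hJ : J ≤ 𝔭) : IsNoetherianRing (stalkSubring A J 𝔭) := by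
  haveI : IsNoetherianRing Ap := IsLocalization.isNoetherianRing 𝔭.primeCompl _ inferInstance
  haveI : IsNoetherianRing (cAtPrime A J 𝔭) :=
    Compl.isNoetherianRing_adicCompletion _ (IsNoetherian.noetherian _)
  haveI := faithfullyFlat_stalkSubring hJ
  rw [isNoetherianRing_iff, isNoetherian_iff']
  refine StrictMono.wellFoundedGT (f := fun I : Ideal (stalkSubring A J 𝔭) =>
    I.map (algebraMap (stalkSubring A J 𝔭) (cAtPrime A J 𝔭))) ?_
  refine Monotone.strictMono_of_injective (fun I K h => Ideal.map_mono h) fun I K h => ?_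
  rw [← Ideal.comap_map_eq_self_of_faithfullyFlat (B := cAtPrime A J 𝔭) I,
    ← Ideal.comap_map_eq_self_of_faithfullyFlat (B := cAtPrime A J 𝔭) K]
  exact congrArg _ h

theorem flat_codRestrict (hJ : J ≤ 𝔭)
    (h : ∀ a : A, ((algebraMap Ap (cAtPrime A J 𝔭)).comp (algebraMap A Ap)) a ∈ stalkSubring A J 𝔭) :
    (((algebraMap Ap (cAtPrime A J 𝔭)).comp (algebraMap A Ap)).codRestrict (stalkSubring A J 𝔭) h).Flat := by
  set r := ((algebraMap Ap (cAtPrime A J 𝔭)).comp (algebraMap A Ap)).codRestrict (stalkSubring A J 𝔭) h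
  haveI : IsNoetherianRing Ap := IsLocalization.isNoetherianRing 𝔭.primeCompl _ inferInstance
  letI := r.toAlgebra
  haveI : IsScalarTower A Ap (cAtPrime A J 𝔭) := IsScalarTower.of_algebraMap_eq fun a => rfl
  haveI : Module.Flat A (cAtPrime A J 𝔭) := Module.Flat.trans A Ap _
  haveI : IsScalarTower A (stalkSubring A J 𝔭) (cAtPrime A J 𝔭) := IsScalarTower.of_algebraMap_eq fun a => rfl
  haveI := faithfullyFlat_stalkSubring hJ
  exact H12.flat_of_flat_of_faithfullyFlat_factor A (stalkSubring A J 𝔭) (cAtPrime A J 𝔭) (cAtPrime A J 𝔭)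
    (AlgHom.id _ _)

end Noetherian

end Groth.Agent.FormalH7
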