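import Groth.Agent.Lib.FormalH7.CplRing
import Groth.Agent.Lib.FormalH7.Stalk
import Groth.Agent.Lib.Compl.Noetherian
import Groth.Agent.Lib.FlatH4.LocCrit
import Groth.Prelude.Def_FSch3

/-!
Completion preserves flatness of maps of Noetherian rings.
-/

set_option autoImplicit false
universe u

open TensorProduct

namespace Groth.Agent.FormalH7

variable {R S : Type u} [CommRing R] [CommRing S] [IsNoetherianRing R] [IsNoetherianRing S]

theorem ringHomFlat_of_forall_flat_quotient_pow {A B : Type u} [CommRing A] [CommRing B] [IsNoetherianRing A]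
    [IsNoetherianRing B] (φ : A →+* B) (I : Ideal A) (hI : I.map φ ≤ (⊥ : Ideal B).jacobson)
    (h : ∀ n : ℕ, (Ideal.quotientMap ((I ^ n).map φ) φ Ideal.le_comap_map).Flat) : φ.Flat := by
  letI := φ.toAlgebra
  refine FlatH4.flat_of_forall_flat_quotient_pow (S := B) (M := B) I hI fun n _ => ?_
  have h1 : Module.Flat (A ⧸ I ^ n) (B ⧸ (I ^ n).map (algebraMap A B)) := by
    have e : Ideal.quotientMap ((I ^ n).map φ) φ Ideal.le_comap_map =
        algebraMap (A ⧸ I ^ n) (B ⧸ (I ^ n).map (algebraMap A B)) :=
      Ideal.Quotient.ringHom_ext (RingHom.ext fun a => rfl)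
    exact RingHom.flat_algebraMap_iff.1 (e ▸ h n)
  exact Module.Flat.of_linearEquiv (Algebra.TensorProduct.quotIdealMapEquivQuotTensor B (I ^ n)).symm.toLinearEquiv

theorem flat_complMap (I : Ideal R) (K : Ideal S) (g : R →+* S) (hg : g.Flat) (hK : I.map g = K) :
    (FSch.complMap I K g hK.le).Flat := by
  subst hK
  haveI := Compl.isNoetherianRing_adicCompletion I (IsNoetherian.noetherian I)
  haveI := Compl.isNoetherianRing_adicCompletion (I.map g) (IsNoetherian.noetherian _)
  let φ := FSch.complMap I (I.map g) g le_rfl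
  have hev : ∀ n x, AdicCompletion.evalₐ (I.map g) n (φ x) =
      Ideal.quotientMap ((I.map g) ^ n) g (FSch.pow_le_comap_pow_of_map_le I _ g le_rfl n)
        (AdicCompletion.evalₐ I n x) := fun n x => evalₐ_complMap I (I.map g) g le_rfl n x
  have hcomp : φ.comp (algebraMap R (AdicCompletion I R)) = (algebraMap S (AdicCompletion (I.map g) S)).comp g := by
    exact RingHom.ext fun r => complMap_algebraMap I (I.map g) g le_rfl r
  have hmap : ∀ J : Ideal R, (J.map (algebraMap R (AdicCompletion I R))).map φ =
      (J.map g).map (algebraMap S (AdicCompletion (I.map g) S)) := fun J => by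
    rw [Ideal.map_map, hcomp, Ideal.map_map]
  refine ringHomFlat_of_forall_flat_quotient_pow φ (I.map (algebraMap R (AdicCompletion I R))) ?_ fun n => ?_
  · haveI := AdicCompletion.isAdicComplete_self (I.map g) (IsNoetherian.noetherian _)
    rw [hmap]
    exact IsAdicComplete.le_jacobson_bot _
  · rw [← Ideal.map_pow]
    let e1 := cplQuotEquiv I (IsNoetherian.noetherian I) n
    let e2 := (Ideal.quotEquivOfEq (by rw [hmap, Ideal.map_pow] :
        ((I ^ n).map (algebraMap R (AdicCompletion I R))).map φ =
          ((I.map g) ^ n).map (algebraMap S (AdicCompletion (I.map g) S)))).trans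
      (cplQuotEquiv (I.map g) (IsNoetherian.noetherian _) n)
    have hfl : (Ideal.quotientMap ((I.map g) ^ n) g (FSch.pow_le_comap_pow_of_map_le I _ g le_rfl n)).Flat := by
      have := flat_quotientMap (I ^ n) hg
      let e3 := Ideal.quotEquivOfEq (Ideal.map_pow g I n)
      have := this.comp (RingHom.Flat.of_bijective e3.bijective : e3.toRingHom.Flat)
      convert this
      exact Ideal.Quotient.ringHom_ext (RingHom.ext fun a => rfl)
    have h2 := ((RingHom.Flat.of_bijective e1.bijective : e1.toRingHom.Flat).comp hfl).comp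
      (RingHom.Flat.of_bijective e2.symm.bijective : e2.symm.toRingHom.Flat)
    convert h2
    refine Ideal.Quotient.ringHom_ext (RingHom.ext fun a => ?_)
    apply e2.injective
    simp only [RingHom.comp_apply, Ideal.quotientMap_mk, RingEquiv.toRingHom_eq_coe, RingEquiv.coe_toRingHom,
      RingEquiv.apply_symm_apply]
    simp only [e1, e2, RingEquiv.trans_apply, Ideal.quotEquivOfEq_mk, cplQuotEquiv_mk, hev]

end Groth.Agent.FormalH7
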