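import Groth.Agent.Lib.FormalH7.Ideal
import Mathlib.RingTheory.Noetherian.OfPrime

/-!
# Systems of thickenings: adic conditions, completions, formal spectra
-/

set_option autoImplicit false
universe u

open CategoryTheory CategoryTheory.Limits AlgebraicGeometry
open AlgebraicGeometry.Scheme.IdealSheafData

namespace Groth.Agent.FormalH7

variable {Y : Scheme.{u}}

theorem toX_comp (𝔛 : FSch.Sys.{u}) (j : ∀ n, 𝔛.X n ⟶ Y) (hj : ∀ n, 𝔛.ι n ≫ j (n + 1) = j n) :
    ∀ n, 𝔛.toX n ≫ j n = j 0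
  | 0 => Category.id_comp _
  | n + 1 => by
    show (𝔛.toX n ≫ 𝔛.ι n) ≫ j (n + 1) = j 0
    rw [Category.assoc, hj, toX_comp 𝔛 j hj n]

theorem isClosedImmersion_toX {𝔛 : FSch.Sys.{u}} (h : 𝔛.IsFormal) : ∀ n, IsClosedImmersion (𝔛.toX n)
  | 0 => inferInstanceAs (IsClosedImmersion (𝟙 _))
  | n + 1 => by
    haveI := isClosedImmersion_toX h n
    haveI := (h n).1
    exact inferInstanceAs (IsClosedImmersion (𝔛.toX n ≫ 𝔛.ι n))

theorem surjective_toX {𝔛 : FSch.Sys.{u}} (h : 𝔛.IsFormal) : ∀ n, Function.Surjective (𝔛.toX n).base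
  | 0 => fun x => ⟨x, rfl⟩
  | n + 1 => fun x => by
    obtain ⟨y, rfl⟩ := (h n).2 x
    obtain ⟨z, rfl⟩ := surjective_toX h n y
    exact ⟨z, rfl⟩

/-- Criterion for a system inside `Y` cut out by the powers of one ideal sheaf. -/
theorem isFormal_isAdic_of_embedded (𝔛 : FSch.Sys.{u}) (j : ∀ n, 𝔛.X n ⟶ Y) [∀ n, IsClosedImmersion (j n)]
    (hj : ∀ n, 𝔛.ι n ≫ j (n + 1) = j n) (K : Y.IdealSheafData) (hK : ∀ n, (j n).ker = K ^ (n + 1)) :
    𝔛.IsFormal ∧ 𝔛.IsAdic := by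
  refine ⟨fun n => ?_, fun n => ?_⟩
  · have hc : IsClosedImmersion (𝔛.ι n ≫ j (n + 1)) := by rw [hj]; infer_instance
    refine ⟨IsClosedImmersion.of_comp (𝔛.ι n) (j (n + 1)), fun x => ?_⟩
    have hrange : ∀ m, Set.range (j m) = (K.support : Set Y) := fun m => by
      have h1 : ((j m).ker.support : Set Y) = closure (Set.range (j m)) := Scheme.Hom.support_ker _
      rw [hK, support_pow_succ] at h1
      rw [h1]
      exact ((j m).isClosedEmbedding.isClosed_range.closure_eq).symm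
    obtain ⟨y, hy⟩ : j (n + 1) x ∈ Set.range (j n) := by
      rw [hrange, ← hrange (n + 1)]; exact ⟨x, rfl⟩
    refine ⟨y, (j (n + 1)).isClosedEmbedding.injective ?_⟩
    rw [← hy, ← hj n]
    rfl
  · rw [ker_eq_comap_of_comp (hj n), ker_eq_comap_of_comp (toX_comp 𝔛 j hj (n + 1)), hK, hK,
      pow_one, BlowUpExist.comap_pow]

theorem completionAlong_ker (X : Scheme.{u}) (𝓘 : X.IdealSheafData) (n : ℕ) :
    (FSch.completionToX X 𝓘 n).ker = 𝓘 ^ (n + 1) := ker_subschemeι _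

theorem completionAlong_comp (X : Scheme.{u}) (𝓘 : X.IdealSheafData) (n : ℕ) :
    (FSch.completionAlong X 𝓘).ι n ≫ FSch.completionToX X 𝓘 (n + 1) = FSch.completionToX X 𝓘 n :=
  inclusion_subschemeι _

theorem isFormal_isAdic_completionAlong (X : Scheme.{u}) (𝓘 : X.IdealSheafData) :
    (FSch.completionAlong X 𝓘).IsFormal ∧ (FSch.completionAlong X 𝓘).IsAdic :=
  haveI : ∀ n, IsClosedImmersion (FSch.completionToX X 𝓘 n) := fun n =>
    inferInstanceAs (IsClosedImmersion (𝓘 ^ (n + 1)).subschemeι)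
  isFormal_isAdic_of_embedded _ (FSch.completionToX X 𝓘) (completionAlong_comp X 𝓘) 𝓘 (completionAlong_ker X 𝓘)

instance isClosedImmersion_spfToSpec (A : Type u) [CommRing A] (I : Ideal A) (n : ℕ) :
    IsClosedImmersion (FSch.spfToSpec A I n) :=
  IsClosedImmersion.spec_of_surjective _ Ideal.Quotient.mk_surjective

theorem spfToSpec_comp (A : Type u) [CommRing A] (I : Ideal A) (n : ℕ) :
    (FSch.spf A I).ι n ≫ FSch.spfToSpec A I (n + 1) = FSch.spfToSpec A I n := CohB1.specQuotTrans_specQuot I n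

theorem spfToSpec_ker (A : Type u) [CommRing A] (I : Ideal A) (n : ℕ) :
    (FSch.spfToSpec A I n).ker = FSch.idealSpec A I ^ (n + 1) := by
  rw [← idealSpec_pow]; rfl

theorem isFormal_isAdic_spf (A : Type u) [CommRing A] (I : Ideal A) :
    (FSch.spf A I).IsFormal ∧ (FSch.spf A I).IsAdic :=
  isFormal_isAdic_of_embedded _ (FSch.spfToSpec A I) (spfToSpec_comp A I) _ (spfToSpec_ker A I)

/-! ### Noetherian thickenings -/

theorem isNoetherianRing_of_fg_le_nilradical {A : Type u} [CommRing A] (N : Ideal A) (hN : N.FG)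
    (hnil : N ≤ nilradical A) [IsNoetherianRing (A ⧸ N)] : IsNoetherianRing A := by
  refine IsNoetherianRing.of_prime fun P hP => ?_
  have hNP : N ≤ P := hnil.trans (nilradical_le_prime P)
  refine Submodule.fg_of_fg_map_of_fg_inf_ker (N.mkQ) ?_ ?_
  · have h := Submodule.FG.restrictScalars_of_surjective (R := A)
      ((isNoetherianRing_iff.1 ‹_›).noetherian (P.map (Ideal.Quotient.mk N))) Ideal.Quotient.mk_surjective
    have e : Submodule.map N.mkQ P = (P.map (Ideal.Quotient.mk N)).restrictScalars A := by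
      ext x
      simp only [Submodule.mem_map, Submodule.restrictScalars_mem, Ideal.mem_map_iff_of_surjective _ Ideal.Quotient.mk_surjective]
      rfl
    rw [e]
    exact h
  · rw [Submodule.ker_mkQ, inf_eq_right.2 hNP]
    exact hN

variable {X₀ X : Scheme.{u}}

theorem ker_le_nilradical (i : X₀ ⟶ X) [IsClosedImmersion i] (hs : Function.Surjective i.base) (U : X.affineOpens) :
    i.ker.ideal U ≤ nilradical Γ(X, U.1) := by
  intro s hs'
  rw [mem_nilradical]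
  have hU : IsAffineOpen U.1 := U.2
  have h1 : X.basicOpen s = ⊥ := by
    refine eq_bot_iff.2 fun x hx => ?_
    obtain ⟨y, rfl⟩ := hs x
    have hy : y ∈ i ⁻¹ᵁ X.basicOpen s := hx
    rw [Scheme.preimage_basicOpen] at hy
    have h0 : i.app U.1 s = 0 := by rwa [Scheme.Hom.ker_apply, RingHom.mem_ker] at hs'
    rw [h0, Scheme.basicOpen_zero] at hy
    exact hy.elim
  refine (PrimeSpectrum.basicOpen_eq_bot_iff s).1 ?_
  rw [← hU.fromSpec_preimage_basicOpen, h1]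
  rfl

theorem isNoetherianRing_of_thickening (i : X₀ ⟶ X) [IsClosedImmersion i] (hs : Function.Surjective i.base)
    [IsLocallyNoetherian X₀] (U : X.affineOpens) (hfg : (i.ker.ideal U).FG) : IsNoetherianRing Γ(X, U.1) := by
  haveI : IsNoetherianRing Γ(X₀, i ⁻¹ᵁ U.1) :=
    IsLocallyNoetherian.component_noetherian ⟨i ⁻¹ᵁ U.1, U.2.preimage i⟩
  haveI : IsNoetherianRing (Γ(X, U.1) ⧸ i.ker.ideal U) := by
    refine isNoetherianRing_of_ringEquiv Γ(X₀, i ⁻¹ᵁ U.1) (RingEquiv.symm ?_)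
    refine (Ideal.quotEquivOfEq (Scheme.Hom.ker_apply i U)).trans
      (RingHom.quotientKerEquivOfSurjective ?_)
    exact i.app_surjective U.1 U.2
  exact isNoetherianRing_of_fg_le_nilradical _ hfg (ker_le_nilradical i hs U)

theorem isLocallyNoetherian_of_thickening (i : X₀ ⟶ X) [IsClosedImmersion i] (hs : Function.Surjective i.base)
    [IsLocallyNoetherian X₀] (hfg : ∀ x : X, ∃ U : X.affineOpens, x ∈ U.1 ∧ (i.ker.ideal U).FG) :
    IsLocallyNoetherian X := by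
  choose U hxU hU using hfg
  refine isLocallyNoetherian_of_affine_cover (S := U) (eq_top_iff.2 fun x _ => ?_) fun x =>
    isNoetherianRing_of_thickening i hs (U x) (hU x)
  exact TopologicalSpace.Opens.mem_iSup.2 ⟨x, hxU x⟩

/-- A system with cartesian squares over a formal adic system is formal and adic. -/
theorem isFormal_isAdic_of_isAdicHom {𝔛 𝔖 : FSch.Sys.{u}} (f : 𝔛 ⟶ 𝔖) (hf : FSch.IsAdicHom f)
    (h : 𝔖.IsFormal) (ha : 𝔖.IsAdic) :
    𝔛.IsFormal ∧ 𝔛.IsAdic ∧ ∀ n, IsPullback (𝔛.toX n) ((f : FSch.Hom 𝔛 𝔖).app 0) ((f : FSch.Hom 𝔛 𝔖).app n) (𝔖.toX n) := by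
  have hsq : ∀ n, IsPullback (𝔛.toX n) ((f : FSch.Hom 𝔛 𝔖).app 0) ((f : FSch.Hom 𝔛 𝔖).app n) (𝔖.toX n) := fun n => by
    induction n with
    | zero => exact IsPullback.id_horiz _
    | succ n ih => exact ih.paste_horiz (hf n)
  refine ⟨fun n => ?_, fun n => ?_, hsq⟩
  · haveI := (h n).1
    refine ⟨MorphismProperty.of_isPullback (hf n).flip (h n).1, ?_⟩
    haveI : Surjective (𝔖.ι n) := ⟨(h n).2⟩
    exact (MorphismProperty.of_isPullback (P := @Surjective) (hf n).flip ‹_›).surj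
  · haveI := (h n).1
    haveI := isClosedImmersion_toX h (n + 1)
    rw [ker_of_isPullback (hf n), ker_of_isPullback (hsq (n + 1)), ha n, BlowUpExist.comap_pow]

theorem isLocNoethFormal_of_isAdicHom {𝔛 𝔖 : FSch.Sys.{u}} (f : 𝔛 ⟶ 𝔖)
    (h𝔖 : 𝔖.IsLocNoethFormal) (hf : FSch.IsAdicHom f) [IsLocallyNoetherian (𝔛.X 0)] :
    𝔛.IsLocNoethFormal := by
  obtain ⟨h, ha, hn⟩ := h𝔖
  obtain ⟨h', ha', hsq⟩ := isFormal_isAdic_of_isAdicHom f hf h ha
  refine ⟨h', ha', fun n => ?_⟩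
  haveI := isClosedImmersion_toX h n
  haveI := isClosedImmersion_toX h' n
  haveI := hn n
  refine isLocallyNoetherian_of_thickening _ (surjective_toX h' n) fun x => ?_
  obtain ⟨_, ⟨U, hU, rfl⟩, hxU, -⟩ :=
    (𝔖.X n).isBasis_affineOpens.exists_subset_of_mem_open (Set.mem_univ ((f : FSch.Hom 𝔛 𝔖).app n x)) isOpen_univ
  obtain ⟨_, ⟨V, hV, rfl⟩, hxV, hVU : V ≤ (f : FSch.Hom 𝔛 𝔖).app n ⁻¹ᵁ U⟩ :=
    (𝔛.X n).isBasis_affineOpens.exists_subset_of_mem_open (show x ∈ (f : FSch.Hom 𝔛 𝔖).app n ⁻¹ᵁ U from hxU)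
      ((f : FSch.Hom 𝔛 𝔖).app n ⁻¹ᵁ U).isOpen
  refine ⟨⟨V, hV⟩, hxV, ?_⟩
  rw [ker_of_isPullback (hsq n), EffCartier.comap_ideal _ _ ⟨U, hU⟩ ⟨V, hV⟩ hVU]
  haveI : IsNoetherianRing Γ(𝔖.X n, U) := IsLocallyNoetherian.component_noetherian ⟨U, hU⟩
  exact Ideal.FG.map (IsNoetherian.noetherian _) _

end Groth.Agent.FormalH7

namespace Groth.Agent.FormalH7

/-- Levels of an adic system with Noetherian bottom level and finite type first kernel are Noetherian. -/
theorem isLocallyNoetherian_level {𝔛 : FSch.Sys.{u}} (hF : 𝔛.IsFormal) (hA : 𝔛.IsAdic)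
    [IsLocallyNoetherian (𝔛.X 0)] (hft : FSch.IdealFT (𝔛.ι 0).ker) :
    ∀ n, IsLocallyNoetherian (𝔛.X n) := by
  haveI : ∀ n, IsClosedImmersion (𝔛.ι n) := fun n => (hF n).1
  haveI : ∀ n, IsClosedImmersion (𝔛.toX n) := isClosedImmersion_toX hF
  have hnil : ∀ m, (𝔛.toX (m + 1)).ker ^ (m + 2) = ⊥ := fun m => by
    have h1 : (𝔛.toX (m + 1)).ker = (𝔛.toX (m + 2)).ker.comap (𝔛.ι (m + 1)) :=
      ker_eq_comap_of_comp (g := 𝔛.ι (m + 1)) rfl
    rw [h1, ← BlowUpExist.comap_pow, ← hA (m + 1), comap_ker_self]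
  intro n
  induction n with
  | zero => infer_instance
  | succ n ih =>
    refine isLocallyNoetherian_of_thickening (𝔛.toX (n + 1)) (surjective_toX hF _) fun x => ?_
    obtain ⟨_, ⟨U, hU, rfl⟩, hxU, -⟩ :=
      (𝔛.X (n + 1)).isBasis_affineOpens.exists_subset_of_mem_open (Set.mem_univ x) isOpen_univ
    refine ⟨⟨U, hU⟩, hxU, ?_⟩
    set N := (𝔛.toX (n + 1)).ker.ideal ⟨U, hU⟩ with hN
    have hker : (𝔛.ι n).ker.ideal ⟨U, hU⟩ = N ^ (n + 1) := by rw [hA n]; rfl
    rcases n with - | n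
    · have := hft ⟨U, hU⟩
      rw [hker, pow_one] at this
      exact this
    have hbot : N ^ (n + 3) = ⊥ := by
      have h2 := congrArg (fun I : (𝔛.X (n + 2)).IdealSheafData => I.ideal ⟨U, hU⟩) (hnil (n + 1))
      exact h2
    haveI : IsNoetherianRing Γ(𝔛.X (n + 1), 𝔛.ι (n + 1) ⁻¹ᵁ U) :=
      IsLocallyNoetherian.component_noetherian ⟨_, hU.preimage (𝔛.ι (n + 1))⟩
    haveI : IsNoetherianRing (Γ(𝔛.X (n + 2), U) ⧸ N ^ (n + 2)) :=
      isNoetherianRing_of_ringEquiv Γ(𝔛.X (n + 1), 𝔛.ι (n + 1) ⁻¹ᵁ U)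
        (RingEquiv.symm ((Ideal.quotEquivOfEq (hker.symm.trans (Scheme.Hom.ker_apply (𝔛.ι (n + 1)) ⟨U, hU⟩))).trans
          (RingHom.quotientKerEquivOfSurjective ((𝔛.ι (n + 1)).app_surjective U hU))))
    obtain ⟨G, hG, hGN⟩ : ∃ G : Ideal Γ(𝔛.X (n + 2), U), G.FG ∧
        G.map (Ideal.Quotient.mk (N ^ (n + 2))) = N.map (Ideal.Quotient.mk (N ^ (n + 2))) := by
      obtain ⟨s, hs⟩ := IsNoetherian.noetherian (N.map (Ideal.Quotient.mk (N ^ (n + 2))))
      classical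
      refine ⟨Ideal.span (s.image (Function.surjInv Ideal.Quotient.mk_surjective) : Finset _), ⟨_, rfl⟩, ?_⟩
      rw [Ideal.map_span, Finset.coe_image, ← Set.image_comp, ← hs]
      show Ideal.span _ = Ideal.span _
      congr 1
      rw [Function.comp_def]
      simp [Function.surjInv_eq Ideal.Quotient.mk_surjective]
    have hGN' := congrArg (Ideal.comap (Ideal.Quotient.mk (N ^ (n + 2)))) hGN
    rw [Ideal.comap_map_of_surjective _ Ideal.Quotient.mk_surjective,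
      Ideal.comap_map_of_surjective _ Ideal.Quotient.mk_surjective, ← RingHom.ker_eq_comap_bot, Ideal.mk_ker,
      (sup_eq_left.2 (Ideal.pow_le_self (show n + 2 ≠ 0 by omega)) : N ⊔ N ^ (n + 2) = N)] at hGN'
    have hpow : N ^ (n + 2) ≤ G := by
      calc N ^ (n + 2) = (G ⊔ N ^ (n + 2)) * N ^ (n + 1) := by rw [hGN', ← pow_succ']
        _ = G * N ^ (n + 1) ⊔ N ^ (n + 2) * N ^ (n + 1) := Ideal.sup_mul _ _ _
        _ ≤ G := sup_le Ideal.mul_le_left (by
          rw [← pow_add, show n + 2 + (n + 1) = n + 3 + n by omega, pow_add, hbot, Ideal.bot_mul]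
          exact bot_le)
    show N.FG
    rw [← hGN', sup_eq_left.2 hpow]
    exact hG

end Groth.Agent.FormalH7
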