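import Groth.Agent.Lib.FormalH7.Sys
import Mathlib.RingTheory.AdicCompletion.Basic
import Mathlib.RingTheory.Nakayama

/-!
# Adic morphisms of systems of thickenings
-/

set_option autoImplicit false
universe u

open CategoryTheory CategoryTheory.Limits AlgebraicGeometry
open AlgebraicGeometry.Scheme.IdealSheafData

namespace Groth.Agent.FormalH7

/-- Levelwise cartesian squares form a cartesian square of systems. -/
theorem isPullback_of_levelwise {𝔓 𝔛 𝔜 𝔖 : FSch.Sys.{u}} {p : 𝔓 ⟶ 𝔛} {q : 𝔓 ⟶ 𝔜} {f : 𝔛 ⟶ 𝔖} {g : 𝔜 ⟶ 𝔖}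
    (w : p ≫ f = q ≫ g)
    (h : ∀ n, IsPullback ((p : FSch.Hom _ _).app n) ((q : FSch.Hom _ _).app n) ((f : FSch.Hom _ _).app n)
      ((g : FSch.Hom _ _).app n)) : IsPullback p q f g :=
  IsPullback.of_isLimit' ⟨w⟩ (PullbackCone.IsLimit.mk (fst := p) (snd := q) w
    (fun s => ⟨fun n => (h n).lift ((s.fst : FSch.Hom _ _).app n) ((s.snd : FSch.Hom _ _).app n)
        (congrArg (fun φ => (φ : FSch.Hom _ _).app n) s.condition), fun n => by
      apply (h (n + 1)).hom_ext
      · rw [Category.assoc, Category.assoc, ← (p : FSch.Hom _ _).comm, IsPullback.lift_fst, ← Category.assoc,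
          IsPullback.lift_fst, (s.fst : FSch.Hom _ _).comm]
      · rw [Category.assoc, Category.assoc, ← (q : FSch.Hom _ _).comm, IsPullback.lift_snd, ← Category.assoc,
          IsPullback.lift_snd, (s.snd : FSch.Hom _ _).comm]⟩)
    (fun s => FSch.Hom.ext (funext fun n => (h n).lift_fst _ _ _))
    (fun s => FSch.Hom.ext (funext fun n => (h n).lift_snd _ _ _))
    (fun s m h1 h2 => FSch.Hom.ext (funext fun n => (h n).hom_ext
      (((congrArg (fun φ => (φ : FSch.Hom _ _).app n) h1)).trans ((h n).lift_fst _ _ _).symm)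
      (((congrArg (fun φ => (φ : FSch.Hom _ _).app n) h2)).trans ((h n).lift_snd _ _ _).symm))))

/-- A closed subsystem cut out by strictly compatible ideal sheaves maps adically. -/
theorem isAdicHom_subSysι (𝔛 : FSch.Sys.{u}) (𝒜 : ∀ n, (𝔛.X n).IdealSheafData)
    (h : ∀ n, (𝒜 (n + 1)).comap (𝔛.ι n) = 𝒜 n) :
    FSch.IsAdicHom (FSch.subSysι 𝔛 𝒜 (fun n => (h n).le)) := fun n =>
  (isPullback_of_isClosedImmersion (𝒜 n).subschemeι (𝒜 (n + 1)).subschemeι
    ((FSch.subSys 𝔛 𝒜 (fun n => (h n).le)).ι n) (𝔛.ι n)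
    (((FSch.subSysι 𝔛 𝒜 (fun n => (h n).le)) : FSch.Hom _ _).comm n) (by rw [ker_subschemeι, ker_subschemeι, h n])).flip

theorem isPullback_completionMap {X Y : Scheme.{u}} (f : X ⟶ Y) (𝓚 : Y.IdealSheafData)
    (h : FSch.PowCompat f (𝓚.comap f) 𝓚) (n : ℕ) :
    IsPullback (FSch.completionToX X (𝓚.comap f) n)
      ((FSch.completionMap f (𝓚.comap f) 𝓚 h : FSch.Hom _ _).app n) f (FSch.completionToX Y 𝓚 n) :=
  haveI : IsClosedImmersion (FSch.completionToX X (𝓚.comap f) n) :=
    inferInstanceAs (IsClosedImmersion (𝓚.comap f ^ (n + 1)).subschemeι)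
  haveI : IsClosedImmersion (FSch.completionToX Y 𝓚 n) :=
    inferInstanceAs (IsClosedImmersion (𝓚 ^ (n + 1)).subschemeι)
  isPullback_of_isClosedImmersion _ _ _ _
    (subschemeMap_subschemeι _ _ _ (le_map_iff_comap_le.mpr (h n))).symm
    (by rw [completionAlong_ker, completionAlong_ker, BlowUpExist.comap_pow])

theorem isAdicHom_completionMap {X Y : Scheme.{u}} (f : X ⟶ Y) (𝓚 : Y.IdealSheafData)
    (h : FSch.PowCompat f (𝓚.comap f) 𝓚) : FSch.IsAdicHom (FSch.completionMap f (𝓚.comap f) 𝓚 h) := fun n => by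
  refine IsPullback.of_right ?_ ((FSch.completionMap f (𝓚.comap f) 𝓚 h : FSch.Hom _ _).comm n).symm
    (isPullback_completionMap f 𝓚 h (n + 1))
  rw [completionAlong_comp, completionAlong_comp]
  exact isPullback_completionMap f 𝓚 h n

theorem completionMap_app_comp {X Y Z : Scheme.{u}} {f : X ⟶ Y} {g : Y ⟶ Z} {I : X.IdealSheafData}
    {J : Y.IdealSheafData} {K : Z.IdealSheafData} (hf : FSch.PowCompat f I J) (hg : FSch.PowCompat g J K) (n : ℕ) :
    ((FSch.completionMap f I J hf : FSch.Hom _ _).app n ≫ (FSch.completionMap g J K hg : FSch.Hom _ _).app n) ≫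
      (K ^ (n + 1)).subschemeι = FSch.completionToX X I n ≫ (f ≫ g) := by
  show (subschemeMap _ _ f (le_map_iff_comap_le.mpr (hf n)) ≫ subschemeMap _ _ g (le_map_iff_comap_le.mpr (hg n))) ≫ _ =
    (I ^ (n + 1)).subschemeι ≫ _
  rw [Category.assoc, subschemeMap_subschemeι, subschemeMap_subschemeι_assoc]

theorem completionMap_comm_sq {X Y Z W : Scheme.{u}} {f : X ⟶ Y} {g : Y ⟶ Z} {f' : X ⟶ W} {g' : W ⟶ Z}
    {I : X.IdealSheafData} {J : Y.IdealSheafData} {L : W.IdealSheafData} {K : Z.IdealSheafData}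
    (hf : FSch.PowCompat f I J) (hg : FSch.PowCompat g J K) (hf' : FSch.PowCompat f' I L) (hg' : FSch.PowCompat g' L K)
    (w : f ≫ g = f' ≫ g') :
    FSch.completionMap f I J hf ≫ FSch.completionMap g J K hg =
      FSch.completionMap f' I L hf' ≫ FSch.completionMap g' L K hg' :=
  FSch.Hom.ext (funext fun n => (cancel_mono (K ^ (n + 1)).subschemeι).1 (by
    exact (completionMap_app_comp hf hg n).trans
      ((congrArg _ w).trans (completionMap_app_comp hf' hg' n).symm)))

theorem spf_ι_ker (A : Type u) [CommRing A] (I : Ideal A) (n : ℕ) :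
    ((FSch.spf A I).ι n).ker =
      FSch.idealSpec (A ⧸ I ^ (n + 2)) ((I ^ (n + 1)).map (Ideal.Quotient.mk (I ^ (n + 2)))) := by
  rw [ker_eq_comap_of_comp (spfToSpec_comp A I n), spfToSpec_ker, ← idealSpec_pow]
  exact comap_idealSpec _ _ _ _

theorem isAdicHom_spfMap_iff (A B : Type u) [CommRing A] [CommRing B] [IsNoetherianRing A]
    (I : Ideal A) (K : Ideal B) [IsAdicComplete I A] (φ : B →+* A) (h : K ≤ I.comap φ) :
    FSch.IsAdicHom (FSch.spfMap I K φ h) ↔ K.map φ = I := by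
  have hc : ∀ n, ((FSch.spf B K).ι n).ker.comap ((FSch.spfMap I K φ h : FSch.Hom _ _).app (n + 1)) =
      FSch.idealSpec (A ⧸ I ^ (n + 2)) (((K.map φ) ^ (n + 1)).map (Ideal.Quotient.mk (I ^ (n + 2)))) := fun n => by
    rw [spf_ι_ker]
    show (FSch.idealSpec (B ⧸ K ^ (n + 1 + 1)) _).comap (Spec.map (CommRingCat.ofHom (FSch.quotPowMap I K φ h (n + 1)))) = _
    rw [comap_idealSpec, ← Ideal.map_pow, Ideal.map_map, Ideal.map_map]
    rfl
  haveI : ∀ n, IsClosedImmersion ((FSch.spf B K).ι n) := fun n => ((isFormal_isAdic_spf B K).1 n).1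
  haveI : ∀ n, IsClosedImmersion ((FSch.spf A I).ι n) := fun n => ((isFormal_isAdic_spf A I).1 n).1
  constructor
  · intro hf
    have h0 := ker_of_isPullback (hf 0)
    rw [hc 0, spf_ι_ker] at h0
    have h1 := idealSpec_injective _ h0
    refine le_antisymm (Ideal.map_le_iff_le_comap.2 h) ?_
    have h2 : I ≤ K.map φ ⊔ I ^ 2 := by
      have := congrArg (Ideal.comap (Ideal.Quotient.mk (I ^ (0 + 2)))) h1
      rw [Ideal.comap_map_of_surjective _ Ideal.Quotient.mk_surjective,
        Ideal.comap_map_of_surjective _ Ideal.Quotient.mk_surjective, ← RingHom.ker_eq_comap_bot, Ideal.mk_ker,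
        zero_add, pow_one, pow_one] at this
      exact le_sup_left.trans this.le
    exact Submodule.le_of_le_smul_of_le_jacobson_bot (IsNoetherian.noetherian I) (IsAdicComplete.le_jacobson_bot I)
      (by rwa [smul_eq_mul, ← pow_two])
  · intro hKI n
    refine (isPullback_of_isClosedImmersion _ _ _ _ ((FSch.spfMap I K φ h : FSch.Hom _ _).comm n).symm ?_)
    rw [hc n, spf_ι_ker, hKI]

end Groth.Agent.FormalH7
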