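import Groth.Agent.Lib.FormalH7.Sys
import Groth.Agent.Lib.AdicLimH7.Basic
import Groth.Agent.Lib.Compl.Noetherian
import Groth.Agent.Lib.ThickAff3.Affine
import Groth.Prelude.Def_FSch3

/-!
A formal system with affine reduction is the formal spectrum of its ring of compatible sections.
-/

universe u

open CategoryTheory AlgebraicGeometry

namespace Groth.Agent.FormalH7

section tower

variable (R : ℕ → Type u) [∀ n, CommRing (R n)] (t : ∀ n, R (n + 1) →+* R n)

/-- The compatible families. -/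
def towerRing : Subring (∀ n, R n) where
  carrier := {x | ∀ n, t n (x (n + 1)) = x n}
  mul_mem' hx hy n := by simp [hx n, hy n]
  one_mem' n := by simp
  add_mem' hx hy n := by simp [hx n, hy n]
  zero_mem' n := by simp
  neg_mem' hx n := by simp [hx n]

/-- The projections. -/
def towerProj (n : ℕ) : towerRing R t →+* R n := (Pi.evalRingHom R n).comp (towerRing R t).subtype

theorem towerProj_comp (n : ℕ) : (t n).comp (towerProj R t (n + 1)) = towerProj R t n :=
  RingHom.ext fun x => x.2 n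

variable {R t}

/-- A tower of Noetherian rings whose kernels are the powers of the kernel to the bottom comes from a complete ring. -/
theorem exists_complete_of_tower [∀ n, IsNoetherianRing (R n)] (ht : ∀ n, Function.Surjective (t n))
    (φ : ∀ n, R n →+* R 0) (hφ0 : φ 0 = RingHom.id _) (hφ : ∀ n, φ (n + 1) = (φ n).comp (t n))
    (hker : ∀ n, RingHom.ker (t n) = RingHom.ker (φ (n + 1)) ^ (n + 1)) :
    ∃ J : Ideal (towerRing R t), IsNoetherianRing (towerRing R t) ∧ IsAdicComplete J (towerRing R t) ∧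
      (∀ n, Function.Surjective (towerProj R t n)) ∧ ∀ n, RingHom.ker (towerProj R t n) = J ^ (n + 1) := by
  classical
  let π := towerProj R t
  have hmap : ∀ n, (RingHom.ker (φ (n + 1))).map (t n) = RingHom.ker (φ n) := by
    intro n
    rw [hφ n, ← RingHom.comap_ker, Ideal.map_comap_of_surjective _ (ht n)]
  have hnil : ∀ n, RingHom.ker (φ n) ^ (n + 1) = ⊥ := by
    intro n
    rcases n with _ | n
    · rw [hφ0, pow_one]; exact (RingHom.injective_iff_ker_eq_bot _).1 fun _ _ h => h
    · rw [← hmap (n + 1), ← Ideal.map_pow, Ideal.map_eq_bot_iff_le_ker, hker (n + 1)]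
  have hsurj : ∀ n, Function.Surjective (π n) := by
    letI : ∀ n, Algebra (towerRing R t) (R n) := fun n => (π n).toAlgebra
    intro n y
    obtain ⟨z, hz, hzn⟩ := AdicLimH7.exists_compatible (A := towerRing R t)
      (f := fun n => (AlgHom.toLinearMap ({ t n with commutes' := fun a => a.2 n } : R (n + 1) →ₐ[towerRing R t] R n)))
      ht n y
    exact ⟨⟨z, hz⟩, hzn⟩
  obtain ⟨s, hs⟩ := IsNoetherian.noetherian (RingHom.ker (φ 1))
  let G : Ideal (towerRing R t) := Ideal.span (s.image (Function.surjInv (hsurj 1)) : Finset _)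
  have hGfg : G.FG := ⟨_, rfl⟩
  have hG1 : G.map (π 1) = RingHom.ker (φ 1) := by
    rw [Ideal.map_span, Finset.coe_image, ← Set.image_comp, ← hs]
    show Ideal.span _ = Ideal.span _
    congr 1
    rw [Function.comp_def]
    simp [Function.surjInv_eq (hsurj 1)]
  have hGn : ∀ n, G.map (π n) = RingHom.ker (φ n) := by
    intro n
    induction n with
    | zero =>
      show G.map (towerProj R t 0) = _
      rw [← towerProj_comp R t 0, ← Ideal.map_map, hG1, hmap 0]
    | succ n ih =>
      rcases n with _ | m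
      · exact hG1
      set N := RingHom.ker (φ (m + 1 + 1)) with hN
      have h1 : G.map (π (m + 1 + 1)) ⊔ RingHom.ker (t (m + 1)) = N := by
        have h2 : (G.map (π (m + 1 + 1))).map (t (m + 1)) = N.map (t (m + 1)) := by
          rw [Ideal.map_map, towerProj_comp, ih, hmap]
        have h3 := congrArg (Ideal.comap (t (m + 1))) h2
        rw [Ideal.comap_map_of_surjective _ (ht _), Ideal.comap_map_of_surjective _ (ht _),
          ← RingHom.ker_eq_comap_bot] at h3
        rw [h3, sup_eq_left, hker, ← hN]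
        exact Ideal.pow_le_self (by omega)
      refine le_antisymm (le_sup_left.trans h1.le) ?_
      have h4 : ∀ k, N ≤ G.map (π (m + 1 + 1)) ⊔ N ^ (k + 1) := by
        intro k
        induction k with
        | zero => rw [pow_one]; exact le_sup_right
        | succ k ihk =>
          refine ihk.trans (sup_le le_sup_left ?_)
          have hN2 : N ≤ G.map (π (m + 1 + 1)) ⊔ N ^ 2 := by
            refine h1.ge.trans (sup_le le_sup_left (le_sup_of_le_right ?_))
            rw [hker]
            exact Ideal.pow_le_pow_right (by omega)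
          rw [pow_succ]
          refine (Ideal.mul_mono_right hN2).trans ?_
          rw [Ideal.mul_sup, ← pow_add]
          exact sup_le (le_sup_of_le_left Ideal.mul_le_right) le_sup_right
      refine (h4 (m + 2)).trans (sup_le le_rfl ?_)
      rw [hnil]
      exact bot_le
  letI : ∀ n, Algebra (towerRing R t) (R n) := fun n => (π n).toAlgebra
  let f : ∀ n, R (n + 1) →ₗ[towerRing R t] R n := fun n =>
    ({ t n with commutes' := fun a => a.2 n } : R (n + 1) →ₐ[towerRing R t] R n).toLinearMap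
  let p : ∀ n, towerRing R t →ₗ[towerRing R t] R n := fun n => Algebra.linearMap _ (R n)
  have hsys : AdicLimH7.Sys G R f (towerRing R t) p := by
    refine ⟨ht, fun n => ?_, fun n => LinearMap.ext fun x => x.2 n, fun x hx => Subtype.ext (funext hx),
      fun y hy => ⟨⟨y, hy⟩, fun n => rfl⟩⟩
    rw [Ideal.smul_top_eq_map]
    have e : (G ^ (n + 1)).map (algebraMap (towerRing R t) (R (n + 1))) = RingHom.ker (t n) := by
      rw [Ideal.map_pow]
      show (G.map (π (n + 1))) ^ (n + 1) = _
      rw [hGn, hker]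
    rw [e]
    rfl
  have hk : ∀ n, RingHom.ker (π n) = G ^ (n + 1) := fun n => by
    have := hsys.ker_eq hGfg n
    rw [smul_eq_mul, Ideal.mul_top] at this
    rw [← this]
    rfl
  haveI := hsys.isAdicComplete hGfg
  refine ⟨G, ?_, inferInstance, hsurj, hk⟩
  have e0 : RingHom.ker (π 0) = G := by rw [hk 0, zero_add, pow_one]
  haveI : IsNoetherianRing (towerRing R t ⧸ G) :=
    isNoetherianRing_of_ringEquiv (R 0)
      ((RingHom.quotientKerEquivOfSurjective (hsurj 0)).symm.trans (Ideal.quotEquivOfEq e0))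
  exact Compl.isNoetherianRing_of_isAdicComplete G hGfg

end tower

theorem ker_pow_eq_bot (𝔛 : FSch.Sys.{u}) (hF : 𝔛.IsFormal) (hA : 𝔛.IsAdic) :
    ∀ m, (𝔛.toX (m + 1)).ker ^ (m + 2) = ⊥ := by
  haveI : ∀ n, IsClosedImmersion (𝔛.ι n) := fun n => (hF n).1
  haveI : ∀ n, IsClosedImmersion (𝔛.toX n) := isClosedImmersion_toX hF
  intro m
  have h1 : (𝔛.toX (m + 1)).ker = (𝔛.toX (m + 2)).ker.comap (𝔛.ι (m + 1)) :=
    ker_eq_comap_of_comp (g := 𝔛.ι (m + 1)) rfl
  rw [h1, ← BlowUpExist.comap_pow, ← hA (m + 1), comap_ker_self]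

theorem isAffine_level (𝔛 : FSch.Sys.{u}) (hF : 𝔛.IsFormal) (hA : 𝔛.IsAdic) [IsAffine (𝔛.X 0)] :
    ∀ n, IsAffine (𝔛.X n) := by
  intro n
  rcases n with _ | m
  · infer_instance
  haveI : IsClosedImmersion (𝔛.toX (m + 1)) := isClosedImmersion_toX hF _
  haveI : Surjective (𝔛.toX (m + 1)) := ⟨surjective_toX hF _⟩
  refine ThickAff3.isAffine_of_nilpotent_thickening (𝔛.toX (m + 1)) (m + 2) fun U => ?_
  rw [← Scheme.Hom.ker_apply]
  exact congrArg (fun I : (𝔛.X (m + 1)).IdealSheafData => I.ideal U) (ker_pow_eq_bot 𝔛 hF hA m)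

theorem exists_iso_spf_of_isAffine (𝔛 : FSch.Sys.{u}) (hF : 𝔛.IsFormal) (hA : 𝔛.IsAdic)
    [IsAffine (𝔛.X 0)] [IsLocallyNoetherian (𝔛.X 0)] (hft : FSch.IdealFT (𝔛.ι 0).ker) :
    ∃ (A : Type u) (_ : CommRing A) (J : Ideal A),
      IsNoetherianRing A ∧ IsAdicComplete J A ∧ Nonempty (𝔛 ≅ FSch.spf A J) := by
  haveI := isAffine_level 𝔛 hF hA
  haveI : ∀ n, IsClosedImmersion (𝔛.ι n) := fun n => (hF n).1
  haveI : ∀ n, IsClosedImmersion (𝔛.toX n) := isClosedImmersion_toX hF
  haveI := isLocallyNoetherian_level hF hA hft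
  let R : ℕ → Type u := fun n => Γ(𝔛.X n, ⊤)
  let t : ∀ n, R (n + 1) →+* R n := fun n => (𝔛.ι n).appTop.hom
  haveI : ∀ n, IsNoetherianRing (R n) := fun n =>
    IsLocallyNoetherian.component_noetherian ⟨⊤, isAffineOpen_top (𝔛.X n)⟩
  let φ : ∀ n, R n →+* R 0 := fun n => (𝔛.toX n).appTop.hom
  obtain ⟨J, hJ₁, hJ₂, hs, hk⟩ := exists_complete_of_tower (R := R) (t := t)
    (fun n => (𝔛.ι n).app_surjective ⊤ (isAffineOpen_top _)) φ rfl (fun n => rfl) (fun n => by
      have h := congrArg (fun I : (𝔛.X (n + 1)).IdealSheafData => I.ideal ⟨⊤, isAffineOpen_top _⟩) (hA n)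
      simp only [Scheme.IdealSheafData.ideal_pow, Pi.pow_apply, Scheme.Hom.ker_apply] at h
      exact h)
  let e : ∀ n, (towerRing R t ⧸ J ^ (n + 1)) ≃+* R n := fun n =>
    (Ideal.quotEquivOfEq (hk n).symm).trans (RingHom.quotientKerEquivOfSurjective (hs n))
  let g : ∀ n, 𝔛.X n ⟶ (FSch.spf (towerRing R t) J).X n := fun n =>
    (𝔛.X n).isoSpec.hom ≫ Spec.map (CommRingCat.ofHom (e n).toRingHom)
  haveI : ∀ n, IsIso (g n) := fun n => by
    haveI : IsIso (CommRingCat.ofHom (e n).toRingHom) :=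
      inferInstanceAs (IsIso (RingEquiv.toCommRingCatIso (e n)).hom)
    have h2 : IsIso (Spec.map (CommRingCat.ofHom (e n).toRingHom)) := inferInstance
    exact IsIso.comp_isIso' inferInstance h2
  have hcomm : ∀ n, g n ≫ (FSch.spf (towerRing R t) J).ι n = 𝔛.ι n ≫ g (n + 1) := by
    intro n
    show g n ≫ Spec.map _ = _
    simp only [g, Category.assoc]
    rw [← Scheme.isoSpec_hom_naturality_assoc (𝔛.ι n)]
    refine congrArg ((𝔛.X n).isoSpec.hom ≫ ·) ?_
    refine (Spec.map_comp _ _).symm.trans (Eq.trans (congrArg Spec.map ?_) (Spec.map_comp _ _))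
    ext : 1
    refine Ideal.Quotient.ringHom_ext (RingHom.ext fun a => ?_)
    show e n (Ideal.Quotient.mk (J ^ (n + 1)) a) = t n (e (n + 1) (Ideal.Quotient.mk (J ^ (n + 1 + 1)) a))
    exact (a.2 n).symm
  refine ⟨towerRing R t, inferInstance, J, hJ₁, hJ₂, ⟨{ hom := ⟨g, hcomm⟩, inv := ⟨fun n => inv (g n), fun n => ?_⟩, hom_inv_id := ?_, inv_hom_id := ?_ }⟩⟩
  · rw [IsIso.inv_comp_eq, ← Category.assoc, hcomm n, Category.assoc, IsIso.hom_inv_id, Category.comp_id]
  · exact FSch.Hom.ext (funext fun n => IsIso.hom_inv_id _)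
  · exact FSch.Hom.ext (funext fun n => IsIso.inv_hom_id _)

end Groth.Agent.FormalH7
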