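import Groth.Agent.Lib.FormalH7.Ideal
import Groth.Agent.Lib.EffCartier.Basic
import Groth.Prelude.Def_FSch3
import Mathlib.AlgebraicGeometry.ZariskisMainTheorem
import Mathlib.RingTheory.Filtration
import Mathlib.RingTheory.Finiteness.Nakayama

/-!
Morphisms of proper schemes that are isomorphisms or closed immersions on all thickenings.
-/

universe u

open CategoryTheory CategoryTheory.Limits AlgebraicGeometry
open AlgebraicGeometry.Scheme.IdealSheafData

set_option backward.isDefEq.respectTransparency false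

namespace Groth.Agent.FormalH7

/-- Surjectivity modulo an ideal spreads to a localisation. -/
theorem exists_smul_mem_range {A B : Type u} [CommRing A] [CommRing B] (φ : A →+* B) (hφ : φ.Finite) (J : Ideal A)
    (h : ∀ b : B, ∃ a : A, φ a - b ∈ J.map φ) : ∃ a : A, a - 1 ∈ J ∧ ∀ b : B, ∃ c, φ c = φ a * b := by
  algebraize [φ]
  let R : Submodule A B := LinearMap.range (Algebra.linearMap A B)
  have hle : (⊤ : Submodule A (B ⧸ R)) ≤ J • ⊤ := by
    rintro q -
    obtain ⟨b, rfl⟩ := Submodule.Quotient.mk_surjective R q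
    obtain ⟨a, ha⟩ := h b
    have h2 : (φ a - b : B) ∈ (J • ⊤ : Submodule A B) := by rw [Ideal.smul_top_eq_map]; exact ha
    have h3 := Submodule.mem_map_of_mem (f := R.mkQ) h2
    rw [Submodule.map_smul'', map_sub, Submodule.mkQ_apply, Submodule.mkQ_apply, (Submodule.Quotient.mk_eq_zero R).mpr (show φ a ∈ R from ⟨a, rfl⟩), zero_sub] at h3
    exact Submodule.smul_mono le_rfl le_top (by simpa using neg_mem h3)
  obtain ⟨a, ha, hk⟩ := Submodule.exists_sub_one_mem_and_smul_eq_zero_of_fg_of_le_smul J ⊤ Module.Finite.fg_top hle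
  refine ⟨a, ha, fun b => ?_⟩
  have := hk (R.mkQ b) trivial
  rw [← map_smul, Submodule.mkQ_apply, Submodule.Quotient.mk_eq_zero] at this
  obtain ⟨c, hc⟩ := this
  exact ⟨c, hc.trans (Algebra.smul_def a b)⟩

/-- A kernel contained in all powers is killed by an element congruent to one. -/
theorem exists_mul_ker_eq_zero {A B : Type u} [CommRing A] [IsNoetherianRing A] [CommRing B] (φ : A →+* B)
    (J : Ideal A) (h : ∀ n x, φ x = 0 → x ∈ J ^ (n + 1)) : ∃ a : A, a - 1 ∈ J ∧ ∀ x, φ x = 0 → a * x = 0 := by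
  have hle : RingHom.ker φ ≤ J • RingHom.ker φ := fun x hx => by
    have hx' : x ∈ (⨅ i : ℕ, J ^ i • ⊤ : Submodule A A) := by
      refine Submodule.mem_iInf _ |>.mpr fun i => ?_
      rw [smul_eq_mul, Ideal.mul_top]
      exact Ideal.pow_le_pow_right (Nat.le_succ i) (h i x hx)
    obtain ⟨r, hr⟩ := (J.mem_iInf_smul_pow_eq_bot_iff x).mp hx'
    rw [← hr]
    exact Submodule.smul_mem_smul r.2 hx
  obtain ⟨a, ha, hk⟩ := Submodule.exists_sub_one_mem_and_smul_eq_zero_of_fg_of_le_smul J _ (IsNoetherian.noetherian _) hle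
  exact ⟨a, ha, fun x hx => hk x hx⟩

/-- The square of subschemes cut out by an ideal and its inverse image. -/
theorem isPullback_subschemeMap {X Y : Scheme.{u}} (f : X ⟶ Y) (I : X.IdealSheafData) (J : Y.IdealSheafData)
    (e : I = J.comap f) (hle : J ≤ I.map f) :
    IsPullback I.subschemeι (subschemeMap I J f hle) f J.subschemeι := by
  subst e
  refine IsPullback.of_iso_pullback ⟨(subschemeMap_subschemeι _ _ f hle).symm⟩ (J.comapIso f) ?_ ?_
  · exact comapIso_hom_fst J f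
  · exact comapIso_hom_snd J f

variable {X Y Z : Scheme.{u}} (g : X ⟶ Z) (h : Y ⟶ Z) (f : X ⟶ Y) (w : f ≫ h = g) (𝓙 : Z.IdealSheafData)
  (hc : FSch.PowCompat f (𝓙.comap g) (𝓙.comap h))

include w in
theorem pow_comap_eq (n : ℕ) : (𝓙.comap g) ^ (n + 1) = ((𝓙.comap h) ^ (n + 1)).comap f := by
  rw [BlowUpExist.comap_pow, ← comap_comp, w]

include w in
theorem app_of_restrict {P : MorphismProperty Scheme.{u}} [P.IsStableUnderBaseChange] [P.RespectsIso]
    (U : Z.Opens) (hU : (𝓙.support : Set Z) ⊆ U) (hP : P (f ∣_ h ⁻¹ᵁ U)) (n : ℕ) :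
    P ((FSch.completionMap f (𝓙.comap g) (𝓙.comap h) hc : FSch.Hom _ _).app n) := by
  rw [FSch.completionMap_app]
  have sq := isPullback_subschemeMap f _ _ (pow_comap_eq g h f w 𝓙 n) (le_map_iff_comap_le.mpr (hc n))
  let ι := ((𝓙.comap h) ^ (n + 1)).subschemeι
  have hr : Set.range ι.base ⊆ Set.range (h ⁻¹ᵁ U).ι.base := by
    intro y hy
    rw [Scheme.Opens.range_ι]
    have h1 : y ∈ (((𝓙.comap h) ^ (n + 1)).support : Set Y) := (range_subschemeι _).le hy
    rw [Scheme.IdealSheafData.support_pow_succ, support_comap] at h1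
    exact hU h1
  let j := IsOpenImmersion.lift (h ⁻¹ᵁ U).ι ι hr
  have sq2 := (isPullback_morphismRestrict f (h ⁻¹ᵁ U))
  have sq' : IsPullback ((𝓙.comap g) ^ (n + 1)).subschemeι
      (subschemeMap _ _ f (le_map_iff_comap_le.mpr (hc n))) f (j ≫ (h ⁻¹ᵁ U).ι) := by
    rw [IsOpenImmersion.lift_fac]; exact sq
  let l := sq2.flip.lift ((𝓙.comap g) ^ (n + 1)).subschemeι (subschemeMap _ _ f (le_map_iff_comap_le.mpr (hc n)) ≫ j)
    (by rw [sq'.w, Category.assoc])
  have sq3 : IsPullback l (subschemeMap _ _ f (le_map_iff_comap_le.mpr (hc n))) (f ∣_ h ⁻¹ᵁ U) j :=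
    IsPullback.of_right (by rw [sq2.flip.lift_fst]; exact sq') (sq2.flip.lift_snd _ _ _) sq2.flip
  exact MorphismProperty.of_isPullback sq3 hP

theorem exists_nhd_closedImmersion [IsLocallyNoetherian Y] [IsProper f] (𝓚 : Y.IdealSheafData)
    (hcl : ∀ n : ℕ, IsClosedImmersion (((𝓚 ^ (n + 1)).comap f).subschemeι ≫ f)) (y : Y) (hy : y ∈ (𝓚.support : Set Y)) :
    ∃ D : Y.Opens, y ∈ D ∧ IsClosedImmersion (f ∣_ D) ∧
      ((∀ n : ℕ, (((𝓚 ^ (n + 1)).comap f).subschemeι ≫ f).ker = 𝓚 ^ (n + 1)) → ∃ D' : Y.Opens, y ∈ D' ∧ IsIso (f ∣_ D')) := by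
  have hfin : (f ⁻¹' {y}).Finite := by
    refine Set.Subsingleton.finite fun x₁ h₁ x₂ h₂ => ?_
    have hmem : ∀ x, f x = y → ∃ z, ((𝓚 ^ (0 + 1)).comap f).subschemeι z = x := fun x hx => by
      have : x ∈ (((𝓚 ^ (0 + 1)).comap f).support : Set X) := by
        rw [support_comap, Scheme.IdealSheafData.support_pow_succ]
        show f x ∈ (𝓚.support : Set Y)
        rw [hx]; exact hy
      rwa [← range_subschemeι] at this
    obtain ⟨z₁, rfl⟩ := hmem x₁ h₁
    obtain ⟨z₂, rfl⟩ := hmem x₂ h₂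
    rw [(hcl 0).base_closed.injective (h₁.trans h₂.symm : _)]
  obtain ⟨V₁, hyV₁, hV₁⟩ := exists_isFinite_morphismRestrict_of_finite_preimage_singleton f y hfin
  obtain ⟨V, hV, hyV, hVV⟩ := exists_isAffineOpen_mem_and_subset (X := Y) (x := y) (U := V₁) hyV₁
  haveI hfV : IsFinite (f ∣_ V) := by
    have h1 : IsFinite ((f ∣_ V₁) ∣_ (V₁.ι ⁻¹ᵁ V)) := IsZariskiLocalAtTarget.restrict (P := @IsFinite) hV₁ _
    have h2 := (MorphismProperty.arrow_mk_iso_iff @IsFinite (morphismRestrictRestrict f V₁ (V₁.ι ⁻¹ᵁ V))).1 h1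
    rwa [show V₁.ι ''ᵁ (V₁.ι ⁻¹ᵁ V) = V by rw [Scheme.Hom.image_preimage_eq_opensRange_inf, Scheme.Opens.opensRange_ι, inf_eq_right]; exact hVV] at h2
  haveI : IsAffine (↑V : Scheme.{u}) := hV
  have hW : IsAffineOpen (f ⁻¹ᵁ V) := isAffine_of_isAffineHom (f ∣_ V)
  have hfinite : (f.app V).hom.Finite := by
    have h1 := IsFinite.finite_app (f ∣_ V) ⊤ (isAffineOpen_top _)
    rw [← Scheme.Hom.appTop, morphismRestrict_appTop, CommRingCat.hom_comp] at h1
    have e : ∀ V' : Y.Opens, V' = V → (f.app V').hom.Finite → (f.app V).hom.Finite := by rintro _ rfl h; exact h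
    refine e (V.ι ''ᵁ ⊤) V.ι_image_top ?_
    let i := X.presheaf.map (eqToHom (image_morphismRestrict_preimage f V ⊤)).op
    have h2 : ((inv i).hom.comp (i.hom.comp (f.app (V.ι ''ᵁ ⊤)).hom)).Finite :=
      RingHom.Finite.comp (RingHom.Finite.of_surjective _ (ConcreteCategory.bijective_of_isIso (inv i)).surjective) h1
    rwa [← RingHom.comp_assoc, ← CommRingCat.hom_comp, IsIso.hom_inv_id, CommRingCat.hom_id, RingHom.id_comp] at h2
  haveI : IsNoetherianRing Γ(Y, V) := IsLocallyNoetherian.component_noetherian ⟨V, hV⟩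
  let J := 𝓚.ideal ⟨V, hV⟩
  have hB : ∀ n, (((𝓚 ^ (n + 1)).comap f).ideal ⟨f ⁻¹ᵁ V, hW⟩) = (J ^ (n + 1)).map (f.app V).hom := fun n => by
    rw [EffCartier.comap_ideal _ f ⟨V, hV⟩ ⟨f ⁻¹ᵁ V, hW⟩ le_rfl, Scheme.Hom.app_eq_appLE, Scheme.IdealSheafData.ideal_pow]
    rfl
  have hker : ∀ n b, (((𝓚 ^ (n + 1)).comap f).subschemeι.app (f ⁻¹ᵁ V)).hom b = 0 ↔ b ∈ (J ^ (n + 1)).map (f.app V).hom := by
    intro n b
    rw [← hB n]
    conv_rhs => rw [← ker_subschemeι ((𝓚 ^ (n + 1)).comap f)]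
    rw [Scheme.Hom.ker_apply, RingHom.mem_ker]
  obtain ⟨a, ha, hab⟩ := exists_smul_mem_range (f.app V).hom hfinite J fun b => by
    obtain ⟨a, ha⟩ := (haveI := hcl 0; Scheme.Hom.app_surjective (((𝓚 ^ (0 + 1)).comap f).subschemeι ≫ f) V hV)
      ((((𝓚 ^ (0 + 1)).comap f).subschemeι.app (f ⁻¹ᵁ V)).hom b)
    refine ⟨a, ?_⟩
    have := (hker 0 ((f.app V).hom a - b)).mp (by rw [map_sub, sub_eq_zero]; exact ha)
    rwa [zero_add, pow_one] at this
  have hyD : ∀ c : Γ(Y, V), c - 1 ∈ J → y ∈ Y.basicOpen c := by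
    intro c hc
    by_contra hcon
    have h1 : y ∈ Y.zeroLocus (U := V) (J : Set Γ(Y, V)) := ((coe_support_inter 𝓚 ⟨V, hV⟩).le ⟨hy, hyV⟩).1
    rw [Scheme.mem_zeroLocus_iff] at h1
    have h2 := h1 (c - 1) hc
    rw [Scheme.mem_basicOpen _ _ _ hyV] at h2 hcon
    have h3 := (IsLocalRing.maximalIdeal (Y.presheaf.stalk y)).sub_mem ((IsLocalRing.mem_maximalIdeal _).mpr hcon)
      ((IsLocalRing.mem_maximalIdeal _).mpr h2)
    rw [← map_sub, sub_sub_cancel, map_one] at h3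
    exact one_notMem_nonunits ((IsLocalRing.mem_maximalIdeal _).mp h3)
  -- surjectivity over a basic open
  have hsurj : ∀ c : Γ(Y, V), (∀ b, ∃ e, (f.app V).hom e = (f.app V).hom c * b) →
      Function.Surjective (f.app (Y.basicOpen c)).hom := by
    intro c hcb
    have hE : f ⁻¹ᵁ (Y.basicOpen c) = X.basicOpen ((f.app V).hom c) := Scheme.preimage_basicOpen f c
    haveI := hV.isLocalization_basicOpen c
    letI := (X.presheaf.map (homOfLE (f.preimage_mono (Y.basicOpen_le c))).op).hom.toAlgebra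
    haveI : IsLocalization.Away ((f.app V).hom c) Γ(X, f ⁻¹ᵁ Y.basicOpen c) :=
      hW.isLocalization_of_eq_basicOpen _ (homOfLE (f.preimage_mono (Y.basicOpen_le c))) hE
    intro t
    obtain ⟨⟨b, ⟨_, m, rfl⟩⟩, hbm⟩ := IsLocalization.surj (Submonoid.powers ((f.app V).hom c)) t
    obtain ⟨e, he⟩ := hcb b
    have hu : IsUnit (algebraMap Γ(Y, V) Γ(Y, Y.basicOpen c) c) := IsLocalization.Away.algebraMap_isUnit c
    refine ⟨algebraMap Γ(Y, V) Γ(Y, Y.basicOpen c) e * ((hu.unit⁻¹ : _) : Γ(Y, Y.basicOpen c)) ^ (m + 1), ?_⟩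
    have hnat : ∀ z : Γ(Y, V), (f.app (Y.basicOpen c)).hom (algebraMap Γ(Y, V) Γ(Y, Y.basicOpen c) z) =
        algebraMap Γ(X, f ⁻¹ᵁ V) Γ(X, f ⁻¹ᵁ Y.basicOpen c) ((f.app V).hom z) := fun z =>
      ConcreteCategory.congr_hom (f.naturality (homOfLE (Y.basicOpen_le c)).op) z
    refine ((hu.map (f.app (Y.basicOpen c)).hom).pow (m + 1)).mul_left_inj.mp ?_
    have h1 : ((hu.unit⁻¹ : _) : Γ(Y, Y.basicOpen c)) ^ (m + 1) * (algebraMap Γ(Y, V) Γ(Y, Y.basicOpen c) c) ^ (m + 1) = 1 := by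
      rw [← mul_pow, IsUnit.val_inv_mul, one_pow]
    rw [map_mul, mul_assoc, ← map_pow (f.app (Y.basicOpen c)).hom (algebraMap Γ(Y, V) Γ(Y, Y.basicOpen c) c), ← map_mul, h1, map_one, mul_one,
      hnat, he, map_mul, ← hbm]
    simp only [map_pow, map_mul, hnat, pow_succ]
    ring
  have hci : ∀ c : Γ(Y, V), (∀ b, ∃ e, (f.app V).hom e = (f.app V).hom c * b) → IsClosedImmersion (f ∣_ Y.basicOpen c) := by
    intro c hcb
    haveI : IsAffine (↑(Y.basicOpen c) : Scheme.{u}) := hV.basicOpen c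
    haveI : IsAffine (↑(f ⁻¹ᵁ Y.basicOpen c) : Scheme.{u}) := by
      rw [Scheme.preimage_basicOpen f c]; exact hW.basicOpen _
    refine IsClosedImmersion.of_surjective_of_isAffine (f ∣_ Y.basicOpen c) ?_
    rw [morphismRestrict_appTop]
    have e : ∀ U' : Y.Opens, U' = Y.basicOpen c → Function.Surjective (f.app U').hom := by
      rintro _ rfl; exact hsurj c hcb
    exact (ConcreteCategory.bijective_of_isIso (X.presheaf.map (eqToHom _).op)).surjective.comp (e _ (Scheme.Opens.ι_image_top _))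
  refine ⟨Y.basicOpen a, hyD a ha, hci a hab, fun hiso => ?_⟩
  obtain ⟨a', ha', hk⟩ := exists_mul_ker_eq_zero (f.app V).hom J fun n x hx => by
    have h1 : x ∈ ((((𝓚 ^ (n + 1)).comap f).subschemeι ≫ f).ker).ideal ⟨V, hV⟩ := by
      haveI := hcl n
      rw [Scheme.Hom.ker_apply, RingHom.mem_ker]
      change (((𝓚 ^ (n + 1)).comap f).subschemeι.app (f ⁻¹ᵁ V)).hom ((f.app V).hom x) = 0
      rw [hx, map_zero]
    rw [hiso n, Scheme.IdealSheafData.ideal_pow] at h1
    exact h1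
  refine ⟨Y.basicOpen (a * a'), hyD _ (by
    have := J.add_mem (J.mul_mem_right a' ha) ha'
    convert this using 1
    ring), ?_⟩
  haveI : IsClosedImmersion (f ∣_ Y.basicOpen (a * a')) := hci _ fun b => by
    obtain ⟨e, he⟩ := hab b
    exact ⟨e * a', by rw [map_mul, he, map_mul]; ring⟩
  haveI : IsAffine (↑(Y.basicOpen (a * a')) : Scheme.{u}) := hV.basicOpen _
  haveI : IsAffine (↑(f ⁻¹ᵁ Y.basicOpen (a * a')) : Scheme.{u}) := isAffine_of_isAffineHom (f ∣_ Y.basicOpen (a * a'))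
  have hbij : Function.Bijective (f ∣_ Y.basicOpen (a * a')).appTop.hom := by
    refine ⟨?_, Scheme.Hom.app_surjective _ ⊤ (isAffineOpen_top _)⟩
    rw [morphismRestrict_appTop, CommRingCat.hom_comp, RingHom.coe_comp]
    refine (ConcreteCategory.bijective_of_isIso _).injective.comp ?_
    have e : ∀ U' : Y.Opens, U' = Y.basicOpen (a * a') → Function.Injective (f.app U').hom := by
      rintro _ rfl
      haveI := hV.isLocalization_basicOpen (a * a')
      letI := (X.presheaf.map (homOfLE (f.preimage_mono (Y.basicOpen_le (a * a')))).op).hom.toAlgebra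
      haveI : IsLocalization.Away ((f.app V).hom (a * a')) Γ(X, f ⁻¹ᵁ Y.basicOpen (a * a')) :=
        hW.isLocalization_of_eq_basicOpen _ (homOfLE (f.preimage_mono (Y.basicOpen_le _))) (Scheme.preimage_basicOpen f _)
      rw [injective_iff_map_eq_zero]
      intro t ht
      obtain ⟨⟨x, ⟨_, m, rfl⟩⟩, hxm⟩ := IsLocalization.surj (Submonoid.powers (a * a')) t
      have hnat : (f.app (Y.basicOpen (a * a'))).hom (algebraMap Γ(Y, V) _ x) =
          algebraMap Γ(X, f ⁻¹ᵁ V) Γ(X, f ⁻¹ᵁ Y.basicOpen (a * a')) ((f.app V).hom x) :=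
        ConcreteCategory.congr_hom (f.naturality (homOfLE (Y.basicOpen_le (a * a'))).op) x
      rw [← hxm, map_mul, ht, zero_mul] at hnat
      obtain ⟨⟨_, k, rfl⟩, hk'⟩ := (IsLocalization.map_eq_zero_iff (Submonoid.powers ((f.app V).hom (a * a'))) _ _).mp hnat.symm
      replace hk' : (f.app V).hom ((a * a') ^ k * x) = 0 := by rw [map_mul, map_pow]; exact hk'
      have hu : IsUnit (algebraMap Γ(Y, V) Γ(Y, Y.basicOpen (a * a')) (a * a')) := IsLocalization.Away.algebraMap_isUnit _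
      have hzero : algebraMap Γ(Y, V) Γ(Y, Y.basicOpen (a * a')) x = 0 := by
        refine (IsLocalization.map_eq_zero_iff (Submonoid.powers (a * a')) _ _).mpr ⟨⟨_, k + 1, rfl⟩, ?_⟩
        have h5 := hk _ hk'
        change (a * a') ^ (k + 1) * x = 0
        linear_combination a * h5
      refine ((hu.pow m).mul_left_eq_zero).mp ?_
      rw [← map_pow]
      exact hxm.trans hzero
    exact e _ (Scheme.Opens.ι_image_top _)
  haveI : IsIso (f ∣_ Y.basicOpen (a * a')).appTop := (ConcreteCategory.isIso_iff_bijective _).mpr hbij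
  haveI : IsIso ((f ∣_ Y.basicOpen (a * a')) ≫ (↑(Y.basicOpen (a * a')) : Scheme.{u}).isoSpec.hom) := by
    rw [← Scheme.isoSpec_hom_naturality]
    infer_instance
  exact IsIso.of_isIso_comp_right _ (↑(Y.basicOpen (a * a')) : Scheme.{u}).isoSpec.hom

include w in
theorem exists_nhd_of_near {P : MorphismProperty Scheme.{u}} [IsZariskiLocalAtTarget P] [IsProper h]
    (hloc : ∀ y ∈ ((𝓙.comap h).support : Set Y), ∃ D : Y.Opens, y ∈ D ∧ P (f ∣_ D)) :
    ∃ U : Z.Opens, (𝓙.support : Set Z) ⊆ U ∧ P (f ∣_ h ⁻¹ᵁ U) := by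
  let G : Y.Opens := sSup {D : Y.Opens | P (f ∣_ D)}
  let U : Z.Opens := ⟨(h '' (G : Set Y)ᶜ)ᶜ, (h.isClosedMap _ G.isOpen.isClosed_compl).isOpen_compl⟩
  refine ⟨U, ?_, ?_⟩
  · intro z hz
    rintro ⟨y, hy, rfl⟩
    obtain ⟨D, hyD, hD⟩ := hloc y (by rw [support_comap]; exact hz)
    exact hy (TopologicalSpace.Opens.mem_sSup.mpr ⟨D, hD, hyD⟩)
  · have hG : h ⁻¹ᵁ U ≤ G := fun y hy => by
      by_contra hc
      exact hy ⟨y, hc, rfl⟩
    refine (IsZariskiLocalAtTarget.iff_of_iSup_eq_top (P := P) (f := f ∣_ h ⁻¹ᵁ U)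
      (fun D : {D : Y.Opens // P (f ∣_ D)} => (h ⁻¹ᵁ U).ι ⁻¹ᵁ D.1) ?_).mpr fun D => ?_
    · refine top_unique fun y _ => ?_
      obtain ⟨D, hD, hyD⟩ := TopologicalSpace.Opens.mem_sSup.mp (hG y.2)
      exact TopologicalSpace.Opens.mem_iSup.mpr ⟨⟨D, hD⟩, hyD⟩
    · have h1 : P ((f ∣_ D.1) ∣_ (D.1.ι ⁻¹ᵁ (h ⁻¹ᵁ U))) := IsZariskiLocalAtTarget.restrict D.2 _
      have h2 := (P.arrow_mk_iso_iff (morphismRestrictRestrict f D.1 _)).1 h1
      rw [Scheme.Hom.image_preimage_eq_opensRange_inf, Scheme.Opens.opensRange_ι] at h2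
      refine (P.arrow_mk_iso_iff (morphismRestrictRestrict f (h ⁻¹ᵁ U) _)).2 ?_
      rw [Scheme.Hom.image_preimage_eq_opensRange_inf, Scheme.Opens.opensRange_ι, inf_comm]
      exact h2

end Groth.Agent.FormalH7
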