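import Groth.Agent.Lib.FormalH7.Sys
import Groth.Prelude.Def_FSch4
import Groth.Prelude.Def_FSch5
import Mathlib.AlgebraicGeometry.Morphisms.Finite
import Mathlib.AlgebraicGeometry.Morphisms.Separated

/-!
Open formal subsystems and graphs.
-/

universe u

open CategoryTheory Limits AlgebraicGeometry

namespace Groth.Agent.FormalH7

theorem isPullback_resLE_eq {X Y : Scheme.{u}} (f : X ⟶ Y) (U : Y.Opens) (V : X.Opens) (e : V ≤ f ⁻¹ᵁ U)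
    (h : f ⁻¹ᵁ U = V) : IsPullback (f.resLE U V e) V.ι U.ι f := by
  subst h
  rw [Scheme.Hom.resLE_eq_morphismRestrict]
  exact isPullback_morphismRestrict f U

theorem isFinite_resLE_eq {X Y : Scheme.{u}} (f : X ⟶ Y) [IsFinite f] (U : Y.Opens) (V : X.Opens)
    (e : V ≤ f ⁻¹ᵁ U) (h : f ⁻¹ᵁ U = V) : IsFinite (f.resLE U V e) :=
  MorphismProperty.of_isPullback (isPullback_resLE_eq f U V e h).flip ‹_›

theorem isAdicHom_restrictOpenι (𝔛 : FSch.Sys.{u}) (h : 𝔛.IsFormal) (U : (𝔛.X 0).Opens) :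
    FSch.IsAdicHom (𝔛.restrictOpenι h U) := fun n =>
  isPullback_resLE_eq (𝔛.ι n) _ _ (𝔛.lvU_le h n U) (𝔛.lvU_succ h n U)

theorem isFormal_restrictOpen (𝔛 : FSch.Sys.{u}) (h : 𝔛.IsFormal) (U : (𝔛.X 0).Opens) :
    (𝔛.restrictOpen h U).IsFormal := fun n => by
  haveI := (h n).1
  haveI : Surjective (𝔛.ι n) := ⟨(h n).2⟩
  exact ⟨MorphismProperty.of_isPullback (isAdicHom_restrictOpenι 𝔛 h U n).flip (h n).1,
    (MorphismProperty.of_isPullback (P := @Surjective) (isAdicHom_restrictOpenι 𝔛 h U n).flip ‹_›).surj⟩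

theorem isAdicHom_of_comp {𝔛 𝔜 𝔖 : FSch.Sys.{u}} (f : 𝔛 ⟶ 𝔜) (g : 𝔜 ⟶ 𝔖) (hfg : FSch.IsAdicHom (f ≫ g))
    (hg : FSch.IsAdicHom g) : FSch.IsAdicHom f := fun n =>
  IsPullback.of_bot (hfg n) ((f : FSch.Hom 𝔛 𝔜).comm n).symm (hg n)

theorem isAdicHom_comp {𝔛 𝔜 𝔖 : FSch.Sys.{u}} (f : 𝔛 ⟶ 𝔜) (g : 𝔜 ⟶ 𝔖) (hf : FSch.IsAdicHom f)
    (hg : FSch.IsAdicHom g) : FSch.IsAdicHom (f ≫ g) := fun n =>
  (hf n).paste_vert (hg n)

theorem isFiniteHom_restrictOpen {𝔛 𝔜 : FSch.Sys.{u}} (h𝔛 : 𝔛.IsFormal) (h𝔜 : 𝔜.IsFormal)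
    (f : 𝔛 ⟶ 𝔜) (hf : FSch.IsFiniteHom f) (U : (𝔜.X 0).Opens) :
    FSch.IsFiniteHom (FSch.Hom.restrictOpen f h𝔛 h𝔜 U) := by
  refine ⟨isAdicHom_of_comp _ (𝔜.restrictOpenι h𝔜 U) ?_ (isAdicHom_restrictOpenι 𝔜 h𝔜 U), ?_⟩
  · rw [FSch.Hom.restrictOpen_ι]
    exact isAdicHom_comp _ _ (isAdicHom_restrictOpenι 𝔛 h𝔛 _) hf.1
  · haveI := hf.2
    rw [FSch.Hom.restrictOpen_app]
    exact isFinite_resLE_eq _ _ _ _ (FSch.Hom.lvU_preimage f h𝔛 h𝔜 0 U)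

theorem isPullback_graph {C : Type*} [Category C] [HasPullbacks C] {X X' Y Y' S S' : C} (ix : X ⟶ X') (iy : Y ⟶ Y')
    (is : S ⟶ S') [Mono iy] (p : X ⟶ S) (q : Y ⟶ S) (p' : X' ⟶ S') (q' : Y' ⟶ S') (f : X ⟶ Y) (f' : X' ⟶ Y')
    (hp : p ≫ is = ix ≫ p') (hq : q ≫ is = iy ≫ q') (hf : f ≫ iy = ix ≫ f') (w : 𝟙 X ≫ p = f ≫ q)
    (w' : 𝟙 X' ≫ p' = f' ≫ q') :
    IsPullback ix (pullback.lift (𝟙 X) f w) (pullback.lift (𝟙 X') f' w')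
      (pullback.map p q p' q' ix iy is hp hq) := by
  refine IsPullback.of_isLimit' ⟨?_⟩ (PullbackCone.IsLimit.mk _ (fun s => s.snd ≫ pullback.fst _ _)
    (fun s => ?_) (fun s => ?_) (fun s m _ h2 => ?_))
  · apply pullback.hom_ext <;> simp [pullback.map, pullback.lift_fst, pullback.lift_snd, pullback.lift_fst_assoc, pullback.lift_snd_assoc, hf]
  · have h := congrArg (fun k => k ≫ pullback.fst _ _) s.condition
    simp [pullback.map, pullback.lift_fst, pullback.lift_fst_assoc] at h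
    simp [h]
  · have h := congrArg (fun k => k ≫ pullback.fst _ _) s.condition
    have h' := congrArg (fun k => k ≫ pullback.snd _ _) s.condition
    simp [pullback.map, pullback.lift_fst, pullback.lift_snd, pullback.lift_fst_assoc, pullback.lift_snd_assoc] at h h'
    apply pullback.hom_ext
    · simp [pullback.lift_fst]
    · rw [← cancel_mono iy]
      simp only [Category.assoc, pullback.lift_snd_assoc]
      rw [hf, ← h', h]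
      simp
  · rw [← h2]; simp [pullback.lift_fst]

theorem isClosedImmHom_graph {𝔛 𝔜 𝔖 : FSch.Sys.{u}} (h𝔜 : 𝔜.IsFormal) (p : 𝔛 ⟶ 𝔖) (q : 𝔜 ⟶ 𝔖)
    (hq : IsSeparated ((q : FSch.Hom 𝔜 𝔖).app 0)) (f : 𝔛 ⟶ 𝔜) (w : f ≫ q = p) :
    FSch.IsClosedImmHom (FSch.graph f p q w) := by
  refine ⟨fun n => ?_, ?_⟩
  · haveI := (h𝔜 n).1
    exact isPullback_graph (𝔛.ι n) (𝔜.ι n) (𝔖.ι n) _ _ _ _ _ _ ((p : FSch.Hom 𝔛 𝔖).comm n) ((q : FSch.Hom 𝔜 𝔖).comm n) ((f : FSch.Hom 𝔛 𝔜).comm n) _ _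
  · haveI := hq
    have h : ∀ (a : 𝔛.X 0 ⟶ 𝔖.X 0) (b : 𝔛.X 0 ⟶ 𝔜.X 0) (w : 𝟙 (𝔛.X 0) ≫ a = b ≫ (q : FSch.Hom 𝔜 𝔖).app 0),
        IsClosedImmersion (pullback.lift (𝟙 (𝔛.X 0)) b w) := fun a b w => by
      haveI : IsClosedImmersion (pullback.lift (𝟙 (𝔛.X 0)) b w ≫ pullback.fst a ((q : FSch.Hom 𝔜 𝔖).app 0)) := by
        rw [pullback.lift_fst]; infer_instance
      exact IsClosedImmersion.of_comp _ (pullback.fst a ((q : FSch.Hom 𝔜 𝔖).app 0))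
    exact h _ _ _

end Groth.Agent.FormalH7
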