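import Groth.Prelude.Def_FSch5
import Groth.Agent.Lib.FormalH7.AffineSys
import Mathlib.AlgebraicGeometry.IdealSheaf.Functorial

/-!
Sections of the structure sheaf of a formal system over affine opens.
-/

set_option autoImplicit false
universe u

open CategoryTheory CategoryTheory.Limits AlgebraicGeometry Opposite TopologicalSpace

namespace Groth.Agent.FormalH7

/-- A nilpotent thickening, with locally bounded exponent, of an affine scheme is affine. -/
theorem isAffine_of_locally_nilpotent {Y Y' : Scheme.{u}} (t : Y ⟶ Y') [IsClosedImmersion t] [Surjective t]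
    [IsAffine Y] (h : ∀ V : Y'.affineOpens, IsNilpotent (t.ker.ideal V)) : IsAffine Y' := by
  haveI : CompactSpace Y' := ⟨by rw [← Set.range_eq_univ.2 (Surjective.surj (f := t))]; exact isCompact_range t.continuous⟩
  obtain ⟨s, hs, hcov⟩ := isCompact_iff_finite_and_eq_biUnion_affineOpens.1
    (show IsCompact ((⊤ : Y'.Opens) : Set Y') from isCompact_univ)
  choose m hm using h
  have := hs.to_subtype
  haveI := Fintype.ofFinite s
  let N := Finset.univ.sup fun V : s => m V.1
  refine ThickAff3.isAffine_of_nilpotent_thickening t N fun U => ?_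
  have hN : t.ker ^ N = ⊥ := by
    refine Scheme.IdealSheafData.ext_of_iSup_eq_top (U := fun V : s => V.1) ?_ fun V => ?_
    · exact eq_top_iff.2 (hcov.le.trans (iSup₂_le fun V hV => le_iSup (fun V : s => (V.1 : Y'.Opens)) ⟨V, hV⟩))
    · refine le_bot_iff.1 ((Ideal.pow_le_pow_right (Finset.le_sup (f := fun V : s => m V.1) (Finset.mem_univ V))).trans ?_)
      exact (hm V.1).le
  rw [← Scheme.Hom.ker_apply]
  exact congrArg (fun I : Y'.IdealSheafData => I.ideal U) hN

variable (𝔛 : FSch.Sys.{u}) (h : 𝔛.IsFormal)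

theorem isAffineOpen_lvU (hb : ∀ (i : ℕ) (V : (𝔛.X i).affineOpens), IsNilpotent ((𝔛.toX i).ker.ideal V))
    (n : ℕ) {U : (𝔛.X 0).Opens} (hU : IsAffineOpen U) : IsAffineOpen (𝔛.lvU h n U) := by
  haveI := isClosedImmersion_toX h n
  haveI : Surjective (𝔛.toX n) := ⟨surjective_toX h n⟩
  let V := 𝔛.lvU h n U
  have hpre : 𝔛.toX n ⁻¹ᵁ V = U := by
    show (Opens.map ((𝔛.toX n).base ≫ 𝔛.gInv h n)).obj U = U
    rw [FSch.Sys.toX_base_gInv]
    rfl
  haveI : IsAffine (𝔛.toX n ⁻¹ᵁ V).toScheme := by rw [hpre]; exact hU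
  haveI : Surjective (𝔛.toX n ∣_ V) := IsZariskiLocalAtTarget.restrict (P := @Surjective) ‹_› V
  refine isAffine_of_locally_nilpotent (𝔛.toX n ∣_ V) fun W => ?_
  obtain ⟨m, hm⟩ := hb n ⟨V.ι ''ᵁ W.1, W.2.image_of_isOpenImmersion V.ι⟩
  refine ⟨m, ?_⟩
  rw [Scheme.Hom.ker_apply] at hm
  rw [Scheme.Hom.ker_apply]
  erw [morphismRestrict_app, CommRingCat.hom_comp]
  simp only [eqToHom_op, eqToHom_map]; rw [RingHom.ker_comp_of_injective _ (ConcreteCategory.bijective_of_isIso (eqToHom _)).1]
  exact hm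

theorem levelMap_surjective (hb : ∀ (i : ℕ) (V : (𝔛.X i).affineOpens), IsNilpotent ((𝔛.toX i).ker.ideal V))
    (n : ℕ) {U : (𝔛.X 0).Opens} (hU : IsAffineOpen U) :
    Function.Surjective ((𝔛.levelMap h n).hom.app (op U)) := by
  haveI := (h n).1
  rw [FSch.Sys.levelMap_app, Scheme.Hom.appLE]
  refine fun y => ?_
  have he : 𝔛.ι n ⁻¹ᵁ 𝔛.lvU h (n + 1) U = 𝔛.lvU h n U := 𝔛.lvU_succ h n U
  obtain ⟨z, hz⟩ := (ConcreteCategory.bijective_of_isIso
    ((𝔛.X n).presheaf.map (eqToHom he.symm).op)).2 y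
  obtain ⟨x, rfl⟩ := (𝔛.ι n).app_surjective _ (isAffineOpen_lvU 𝔛 h hb (n + 1) hU) z
  exact ⟨x, hz⟩

/-- Projections of the limit of a tower with surjective transition maps are surjective. -/
theorem surjective_π_of_surjective {F : ℕᵒᵖ ⥤ Type u}
    (hF : ∀ n, Function.Surjective (F.map (homOfLE (Nat.le_succ n)).op)) {c : Cone F} (hc : IsLimit c) (i : ℕ) :
    Function.Surjective (c.π.app (op i)) := fun x => by
  choose up hup using hF
  let s' : ∀ k, F.obj (op (i + k)) := fun k => Nat.rec (motive := fun k => F.obj (op (i + k))) x (fun k y => up (i + k) y) k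
  have hs' : ∀ k, F.map (homOfLE (Nat.le_succ (i + k))).op (s' (k + 1)) = s' k := fun k => hup _ _
  let s : ∀ n, F.obj (op n) := fun n => F.map (homOfLE (Nat.le_add_left n i)).op (s' n)
  have hs : ∀ n, F.map (homOfLE (Nat.le_succ n)).op (s (n + 1)) = s n := fun n => by
    simp only [s, ← hs' n, ← ConcreteCategory.comp_apply, ← F.map_comp, ← op_comp, homOfLE_comp]
  have hsec : ∀ (a b : ℕ) (e : a ≤ b), F.map (homOfLE e).op (s b) = s a := fun a b e => by
    induction b, e using Nat.le_induction with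
    | base => simp
    | succ b e ih =>
      refine Eq.trans ?_ ((congrArg (F.map (homOfLE e).op) (hs b)).trans ih)
      exact FunctorToTypes.map_comp_apply F (homOfLE (Nat.le_succ b)).op (homOfLE e).op (s (b + 1))
  let sec : F.sections := ⟨fun n => s n.unop, fun {a b} f => by
    rw [show f = (homOfLE f.unop.le).op from Subsingleton.elim _ _]
    exact hsec _ _ _⟩
  refine ⟨(Types.isLimitEquivSections hc).symm sec, ?_⟩
  rw [Types.isLimitEquivSections_symm_apply]
  show s i = x
  have hk : ∀ k, F.map (homOfLE (Nat.le_add_right i k)).op (s' k) = x := fun k => by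
    induction k with
    | zero => simp [s']
    | succ k ih =>
      rw [← ih, ← hs' k, ← ConcreteCategory.comp_apply, ← F.map_comp, ← op_comp, homOfLE_comp]
  exact hk i

theorem OshProj_app_surjective (hb : ∀ (i : ℕ) (V : (𝔛.X i).affineOpens), IsNilpotent ((𝔛.toX i).ker.ideal V))
    (i : ℕ) {U : (𝔛.X 0).Opens} (hU : IsAffineOpen U) :
    Function.Surjective ((𝔛.OshProj h i).hom.app (op U)) := by
  let G := sheafToPresheaf (Opens.grothendieckTopology (𝔛.X 0)) CommRingCat.{u} ⋙ (evaluation _ _).obj (op U) ⋙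
    forget CommRingCat.{u}
  refine surjective_π_of_surjective (F := 𝔛.levelRing h ⋙ G) (fun n => ?_)
    (isLimitOfPreserves G (limit.isLimit (𝔛.levelRing h))) i
  show Function.Surjective (G.map ((𝔛.levelRing h).map (homOfLE (Nat.le_add_right n 1)).op))
  rw [FSch.Sys.levelRing_map_succ]
  exact levelMap_surjective 𝔛 h hb n hU

end Groth.Agent.FormalH7
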