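import Groth.Agent.Lib.FormalH7.SmoothLift
import Groth.Agent.Lib.FormalH7.Sys

/-!
Local smooth formal liftings of morphisms.
-/

universe u

open CategoryTheory CategoryTheory.Limits AlgebraicGeometry

namespace Groth.Agent.FormalH7

variable {S : Scheme.{u}} (𝒥 : S.IdealSheafData)

/-- The completion of a scheme over the base, as the system of its base changes. -/
noncomputable def bcSys {P : Scheme.{u}} (g : P ⟶ S) : FSch.Sys.{u} where
  X n := pullback g (FSch.completionToX S 𝒥 n)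
  ι n := pullback.map _ _ _ _ (𝟙 P) ((FSch.completionAlong S 𝒥).ι n) (𝟙 S) (by simp)
    (by rw [Category.comp_id, completionAlong_comp])

/-- Its structure morphism. -/
noncomputable def bcProj {P : Scheme.{u}} (g : P ⟶ S) : bcSys 𝒥 g ⟶ FSch.completionAlong S 𝒥 :=
  ⟨fun n => pullback.snd g (FSch.completionToX S 𝒥 n), fun n => by simp [bcSys, pullback.map, pullback.lift_snd]⟩

variable {P : Scheme.{u}} (g : P ⟶ S)

theorem bcSys_fst (n : ℕ) : (bcSys 𝒥 g).ι n ≫ pullback.fst g (FSch.completionToX S 𝒥 (n + 1)) =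
    pullback.fst g (FSch.completionToX S 𝒥 n) := by simp [bcSys, pullback.map, pullback.lift_fst]

theorem isAdicHom_bcProj : FSch.IsAdicHom (bcProj 𝒥 g) := fun n => by
  refine IsPullback.of_right ?_ (((bcProj 𝒥 g : FSch.Hom _ _).comm n).symm)
    (IsPullback.of_hasPullback g (FSch.completionToX S 𝒥 (n + 1)))
  rw [bcSys_fst, completionAlong_comp]
  exact IsPullback.of_hasPullback g (FSch.completionToX S 𝒥 n)

theorem exists_nat_seq {α : ℕ → Type u} (r : ∀ n, α n → α (n + 1) → Prop) (a₀ : α 0)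
    (h : ∀ n a, ∃ b, r n a b) : ∃ s : ∀ n, α n, s 0 = a₀ ∧ ∀ n, r n (s n) (s (n + 1)) := by
  choose F hF using h
  exact ⟨fun n => Nat.rec (motive := α) a₀ F n, rfl, fun n => hF n _⟩

theorem exists_local_smooth_formal_lifting [IsLocallyNoetherian S] {X₀ Y₀ : Scheme.{u}}
    (a : X₀ ⟶ (FSch.completionAlong S 𝒥).X 0) (b : Y₀ ⟶ (FSch.completionAlong S 𝒥).X 0)
    [Smooth a] [Smooth b] (f : X₀ ⟶ Y₀) (w : f ≫ b = a) (x : X₀) :
    ∃ (U₀ : X₀.Opens) (V₀ : Y₀.Opens) (hU : x ∈ U₀) (hUV : U₀ ≤ f ⁻¹ᵁ V₀)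
      (𝔘 𝔙 : FSch.Sys.{u}) (p : 𝔘 ⟶ FSch.completionAlong S 𝒥) (q : 𝔙 ⟶ FSch.completionAlong S 𝒥)
      (Φ : 𝔘 ⟶ 𝔙) (eU : 𝔘.X 0 ≅ U₀.toScheme) (eV : 𝔙.X 0 ≅ V₀.toScheme),
      Φ ≫ q = p ∧ FSch.IsAdicHom p ∧ FSch.IsAdicHom q ∧
      (∀ n : ℕ, AlgebraicGeometry.Smooth ((p : FSch.Hom 𝔘 _).app n)) ∧
      (∀ n : ℕ, AlgebraicGeometry.Smooth ((q : FSch.Hom 𝔙 _).app n)) ∧
      eU.hom ≫ U₀.ι ≫ a = (p : FSch.Hom 𝔘 _).app 0 ∧
      eV.hom ≫ V₀.ι ≫ b = (q : FSch.Hom 𝔙 _).app 0 ∧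
      (Φ : FSch.Hom 𝔘 𝔙).app 0 ≫ eV.hom = eU.hom ≫ f.resLE V₀ U₀ hUV := by
  set i := FSch.completionToX S 𝒥 0
  haveI : IsClosedImmersion i := inferInstanceAs (IsClosedImmersion (𝒥 ^ (0 + 1)).subschemeι)
  obtain ⟨V, hV, hxV, -⟩ := exists_isAffineOpen_mem_and_subset (U := (⊤ : S.Opens)) (x := i (b (f x))) trivial
  haveI : IsNoetherianRing Γ(S, V) := IsLocallyNoetherian.component_noetherian ⟨V, hV⟩
  obtain ⟨V₀, hV₀, hfx, hV₀'⟩ := exists_isAffineOpen_mem_and_subset (U := b ⁻¹ᵁ (i ⁻¹ᵁ V)) (x := f x) hxV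
  obtain ⟨U₀, hU₀, hxU, hUV⟩ := exists_isAffineOpen_mem_and_subset (U := f ⁻¹ᵁ V₀) (x := x) hfx
  have hUV' : U₀ ≤ a ⁻¹ᵁ (i ⁻¹ᵁ V) := fun z hz => by
    have h1 : b (f z) ∈ i ⁻¹ᵁ V := hV₀' (hUV hz)
    rw [← w]
    exact h1
  obtain ⟨C, c, hc, eU, heU⟩ := exists_smooth_extension i a hV hU₀ hUV'
  obtain ⟨D, d, hd, eV, heV⟩ := exists_smooth_extension i b hV hV₀ hV₀'
  let g := Spec.map c ≫ hV.fromSpec
  let h := Spec.map d ≫ hV.fromSpec
  haveI : Smooth g := by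
    haveI : Smooth (Spec.map c) := (HasRingHomProperty.Spec_iff (P := @Smooth)).2 hc
    infer_instance
  haveI : Smooth h := by
    haveI : Smooth (Spec.map d) := (HasRingHomProperty.Spec_iff (P := @Smooth)).2 hd
    infer_instance
  haveI : IsNoetherianRing C := by
    algebraize [c.hom]
    haveI := hc.finitePresentation
    exact Algebra.FiniteType.isNoetherianRing Γ(S, V) C
  -- the levels of the source
  have hcl : ∀ n, IsClosedImmersion (pullback.fst g (FSch.completionToX S 𝒥 n)) := fun n => by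
    haveI : IsClosedImmersion (FSch.completionToX S 𝒥 n) := inferInstanceAs (IsClosedImmersion (𝒥 ^ (n + 1)).subschemeι)
    infer_instance
  haveI haff : ∀ n, IsAffine ((bcSys 𝒥 g).X n) := fun n => by
    haveI := hcl n
    exact (show IsAffine (pullback g (FSch.completionToX S 𝒥 n)) from isAffine_of_isAffineHom (pullback.fst g (FSch.completionToX S 𝒥 n)))
  haveI : ∀ n, IsNoetherianRing Γ((bcSys 𝒥 g).X n, ⊤) := fun n => by
    haveI := hcl n
    haveI : IsNoetherianRing Γ(Spec C, ⊤) :=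
      isNoetherianRing_of_ringEquiv C (Scheme.ΓSpecIso C).commRingCatIsoToRingEquiv.symm
    exact isNoetherianRing_of_surjective Γ(Spec C, ⊤) Γ((bcSys 𝒥 g).X n, ⊤)
      (pullback.fst g (FSch.completionToX S 𝒥 n)).appTop.hom
      (Scheme.Hom.app_surjective _ ⊤ (isAffineOpen_top (Spec C)))
  have hf0 : (eU.hom ≫ f.resLE V₀ U₀ hUV ≫ eV.inv ≫ pullback.fst h i) ≫ h = pullback.fst g i ≫ g := by
    have e1 : eV.inv ≫ pullback.snd h i = V₀.ι ≫ b := by rw [← heV, Iso.inv_hom_id_assoc]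
    rw [Category.assoc, Category.assoc, Category.assoc, pullback.condition, pullback.condition, reassoc_of% e1,
      Scheme.Hom.resLE_comp_ι_assoc, reassoc_of% w, ← heU]
    simp only [Category.assoc]
  let α : ℕ → Type u := fun n =>
    { φ : (bcSys 𝒥 g).X n ⟶ Spec D // φ ≫ h = pullback.fst g (FSch.completionToX S 𝒥 n) ≫ g }
  obtain ⟨s, hs0, hs⟩ := exists_nat_seq (α := α) (fun n φ ψ => (bcSys 𝒥 g).ι n ≫ ψ.1 = φ.1) ⟨_, hf0⟩ (by
    intro n φ
    haveI : IsClosedImmersion ((bcSys 𝒥 g).ι n) :=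
      MorphismProperty.of_isPullback (isAdicHom_bcProj 𝒥 g n).flip ((isFormal_isAdic_completionAlong S 𝒥).1 n).1
    haveI : Surjective ((bcSys 𝒥 g).ι n) :=
      MorphismProperty.of_isPullback (isAdicHom_bcProj 𝒥 g n).flip ⟨((isFormal_isAdic_completionAlong S 𝒥).1 n).2⟩
    obtain ⟨ψ, h1, h2⟩ := exists_lift_of_smooth hV d hd ((bcSys 𝒥 g).ι n) φ.1
      (pullback.fst g (FSch.completionToX S 𝒥 (n + 1)) ≫ g) (by
        rintro _ ⟨z, rfl⟩
        rw [← hV.range_fromSpec]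
        exact ⟨Spec.map c (pullback.fst g (FSch.completionToX S 𝒥 (n + 1)) z), rfl⟩)
      (by
        refine φ.2.trans ?_
        rw [← bcSys_fst 𝒥 g n]
        exact Category.assoc _ _ _)
    exact ⟨⟨ψ, h2⟩, h1⟩)
  let Φn : ∀ n, (bcSys 𝒥 g).X n ⟶ (bcSys 𝒥 h).X n := fun n =>
    pullback.lift (s n).1 (pullback.snd g (FSch.completionToX S 𝒥 n)) ((s n).2.trans pullback.condition)
  let Φ : bcSys 𝒥 g ⟶ bcSys 𝒥 h := ⟨Φn, fun n => by
    apply pullback.hom_ext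
    · refine ((Category.assoc _ _ _).trans (congrArg (Φn n ≫ ·) (bcSys_fst 𝒥 h n))).trans ?_
      refine (pullback.lift_fst _ _ _).trans ((hs n).symm.trans ?_)
      exact ((Category.assoc _ _ _).trans (congrArg ((bcSys 𝒥 g).ι n ≫ ·) (pullback.lift_fst _ _ _))).symm
    · simp [Φn, bcSys, pullback.map, pullback.lift_snd, pullback.lift_snd_assoc]⟩
  refine ⟨U₀, V₀, hxU, hUV, bcSys 𝒥 g, bcSys 𝒥 h, bcProj 𝒥 g, bcProj 𝒥 h, Φ, eU, eV, ?_,
    isAdicHom_bcProj 𝒥 g, isAdicHom_bcProj 𝒥 h, fun n => ?_, fun n => ?_, heU, heV, ?_⟩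
  · refine FSch.Hom.ext (funext fun n => ?_)
    exact pullback.lift_snd _ _ _
  · exact inferInstanceAs (Smooth (pullback.snd g (FSch.completionToX S 𝒥 n)))
  · exact inferInstanceAs (Smooth (pullback.snd h (FSch.completionToX S 𝒥 n)))
  · refine (Iso.eq_comp_inv eV).1 ?_
    change Φn 0 = _
    rw [Category.assoc]
    apply pullback.hom_ext
    · refine (pullback.lift_fst _ _ _).trans ?_
      rw [hs0, Category.assoc, Category.assoc]; rfl
    · refine (pullback.lift_snd _ _ _).trans ?_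
      have e1 : eV.inv ≫ pullback.snd h i = V₀.ι ≫ b := by rw [← heV, Iso.inv_hom_id_assoc]
      rw [Category.assoc, Category.assoc, e1, Scheme.Hom.resLE_comp_ι_assoc, w]
      exact heU.symm

end Groth.Agent.FormalH7
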