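import Groth.Agent.Lib.SmoothLiftH7.Main
import Groth.Prelude.Def_FSch2
import Mathlib.AlgebraicGeometry.Morphisms.Smooth
import Mathlib.AlgebraicGeometry.Morphisms.ClosedImmersion
import Mathlib.AlgebraicGeometry.Pullbacks
import Mathlib.RingTheory.Smooth.Basic

/-!
Smooth liftings to formal completions.
-/

universe u

open CategoryTheory CategoryTheory.Limits AlgebraicGeometry

namespace Groth.Agent.FormalH7

variable {S : Scheme.{u}}

theorem isPullback_fromSpec_app {X Y : Scheme.{u}} (π : Y ⟶ X) {U : X.Opens} (hU : IsAffineOpen U)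
    (hV : IsAffineOpen (π ⁻¹ᵁ U)) : IsPullback hV.fromSpec (Spec.map (π.app U)) π hU.fromSpec := by
  refine (IsOpenImmersion.isPullback _ _ _ _ ?_ ?_).flip
  · rw [Scheme.Hom.app_eq_appLE]
    exact (hU.SpecMap_appLE_fromSpec π hV le_rfl).symm
  · rw [hU.opensRange_fromSpec, hV.opensRange_fromSpec]

/-- A square of surjections whose kernel is extended is a pushout. -/
theorem isPushout_of_surjective {R R₀ C C₀ : CommRingCat.{u}} (φ : R ⟶ C) (a : R ⟶ R₀) (ψ : C ⟶ C₀) (φ₀ : R₀ ⟶ C₀)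
    (w : φ ≫ ψ = a ≫ φ₀) (ha : Function.Surjective a.hom) (hψ : Function.Surjective ψ.hom)
    (hker : RingHom.ker ψ.hom ≤ (RingHom.ker a.hom).map φ.hom) : IsPushout φ a ψ φ₀ := by
  refine ⟨⟨w⟩, ⟨PushoutCocone.IsColimit.mk w
    (fun s => CommRingCat.ofHom (RingHom.liftOfRightInverse ψ.hom _ (Function.rightInverse_surjInv hψ) ⟨s.inl.hom, ?_⟩))
    (fun s => ?_) (fun s => ?_) fun s m h1 h2 => ?_⟩⟩
  · refine hker.trans (Ideal.map_le_iff_le_comap.mpr fun r hr => ?_)
    rw [Ideal.mem_comap, RingHom.mem_ker]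
    have e := congrArg (fun k => k.hom r) s.condition
    rw [CommRingCat.comp_apply, CommRingCat.comp_apply, RingHom.mem_ker.mp hr, map_zero] at e
    exact e
  · exact CommRingCat.hom_ext (RingHom.ext fun c => RingHom.liftOfRightInverse_comp_apply ψ.hom _ (Function.rightInverse_surjInv hψ) _ c)
  · refine CommRingCat.hom_ext (RingHom.ext fun r => ?_)
    obtain ⟨r, rfl⟩ := ha r
    have e := congrArg (fun k => k.hom r) w
    have e' := congrArg (fun k => k.hom r) s.condition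
    simp only [CommRingCat.hom_comp, RingHom.comp_apply, CommRingCat.hom_ofHom] at e e' ⊢
    rw [← e, RingHom.liftOfRightInverse_comp_apply]
    exact e'
  · refine CommRingCat.hom_ext (RingHom.ext fun c => ?_)
    obtain ⟨c, rfl⟩ := hψ c
    rw [CommRingCat.hom_ofHom, RingHom.liftOfRightInverse_comp_apply]
    exact congrArg (fun k => k.hom c) h1

/-- Locally a smooth scheme over a closed subscheme extends to a smooth scheme over the ambient scheme. -/
theorem exists_smooth_extension {S₀ X₀ : Scheme.{u}} (i : S₀ ⟶ S) [IsClosedImmersion i] (a : X₀ ⟶ S₀) [Smooth a]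
    {V : S.Opens} (hV : IsAffineOpen V) {U : X₀.Opens} (hU : IsAffineOpen U) (hUV : U ≤ a ⁻¹ᵁ (i ⁻¹ᵁ V)) :
    ∃ (C : CommRingCat.{u}) (c : Γ(S, V) ⟶ C), c.hom.Smooth ∧
      ∃ e : pullback (Spec.map c ≫ hV.fromSpec) i ≅ U.toScheme,
        e.hom ≫ U.ι ≫ a = pullback.snd (Spec.map c ≫ hV.fromSpec) i := by
  have hW : IsAffineOpen (i ⁻¹ᵁ V) := hV.preimage i
  have hsurj : Function.Surjective (i.app V).hom := Scheme.Hom.app_surjective i V hV
  have hsm : (a.appLE (i ⁻¹ᵁ V) U hUV).hom.Smooth := HasRingHomProperty.appLE @Smooth a inferInstance ⟨_, hW⟩ ⟨_, hU⟩ hUV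
  let e₀ := RingHom.quotientKerEquivOfSurjective hsurj
  letI : Algebra (Γ(S, V) ⧸ RingHom.ker (i.app V).hom) Γ(X₀, U) :=
    ((a.appLE (i ⁻¹ᵁ V) U hUV).hom.comp e₀.toRingHom).toAlgebra
  haveI : Algebra.Smooth (Γ(S, V) ⧸ RingHom.ker (i.app V).hom) Γ(X₀, U) :=
    RingHom.Smooth.toAlgebra (RingHom.Smooth.respectsIso.2 _ e₀ hsm)
  obtain ⟨C, _, _, hC, ⟨E⟩⟩ := SmoothLiftH7.exists_smooth_lift_quotient (A₀ := Γ(X₀, U)) (RingHom.ker (i.app V).hom)
  let c : Γ(S, V) ⟶ CommRingCat.of C := CommRingCat.ofHom (algebraMap Γ(S, V) C)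
  let ψ : CommRingCat.of C ⟶ Γ(X₀, U) := CommRingCat.ofHom (E.toRingEquiv.toRingHom.comp (Ideal.Quotient.mk _))
  refine ⟨CommRingCat.of C, c, RingHom.smooth_algebraMap.mpr hC, ?_⟩
  have w : c ≫ ψ = i.app V ≫ a.appLE (i ⁻¹ᵁ V) U hUV := by
    refine CommRingCat.hom_ext (RingHom.ext fun r => ?_)
    have := E.commutes (Ideal.Quotient.mk (RingHom.ker (i.app V).hom) r)
    refine Eq.trans ?_ (this.trans rfl)
    rfl
  have hP := isPullback_SpecMap_of_isPushout _ _ _ _ (isPushout_of_surjective c (i.app V) ψ _ w hsurj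
    (E.surjective.comp Ideal.Quotient.mk_surjective) (fun x hx => by
      rw [RingHom.mem_ker] at hx
      exact Ideal.Quotient.eq_zero_iff_mem.mp (E.injective (hx.trans (map_zero E).symm))))
  have hP' : IsPullback (Spec.map ψ) (Spec.map (a.appLE (i ⁻¹ᵁ V) U hUV) ≫ hW.fromSpec) (Spec.map c ≫ hV.fromSpec) i :=
    hP.paste_vert (isPullback_fromSpec_app i hV hW).flip
  rw [IsAffineOpen.SpecMap_appLE_fromSpec a hW hU hUV] at hP'
  refine ⟨hP'.isoPullback.symm ≪≫ hU.isoSpec.symm, ?_⟩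
  rw [← hP'.isoPullback_inv_snd]
  simp only [Iso.trans_hom, Iso.symm_hom, Category.assoc, IsAffineOpen.isoSpec_inv_ι_assoc]

/-- Maps into a smooth affine scheme extend along thickenings of Noetherian affine schemes. -/
theorem exists_lift_of_smooth {V : S.Opens} (hV : IsAffineOpen V) {D : CommRingCat.{u}} (d : Γ(S, V) ⟶ D)
    (hd : d.hom.Smooth) {Z Z' : Scheme.{u}} (i : Z ⟶ Z') [IsClosedImmersion i] [Surjective i] [IsAffine Z']
    [IsNoetherianRing Γ(Z', ⊤)] (φ : Z ⟶ Spec D) (b : Z' ⟶ S)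
    (hb : Set.range b.base ⊆ (V : Set S)) (w : φ ≫ Spec.map d ≫ hV.fromSpec = i ≫ b) :
    ∃ φ' : Z' ⟶ Spec D, i ≫ φ' = φ ∧ φ' ≫ Spec.map d ≫ hV.fromSpec = b := by
  haveI : IsAffine Z := isAffine_of_isAffineHom i
  let bV : Z' ⟶ Spec Γ(S, V) := IsOpenImmersion.lift hV.fromSpec b (by rwa [hV.range_fromSpec])
  have hbV : bV ≫ hV.fromSpec = b := IsOpenImmersion.lift_fac _ _ _
  obtain ⟨β, hβ⟩ := Spec.map_surjective (Z'.isoSpec.inv ≫ bV)
  obtain ⟨γ, hγ⟩ := Spec.map_surjective (Z.isoSpec.inv ≫ φ)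
  have hsurj : Function.Surjective i.appTop.hom := Scheme.Hom.app_surjective i ⊤ (isAffineOpen_top Z')
  have hnil : IsNilpotent (RingHom.ker i.appTop.hom) := by
    refine (Ideal.FG.isNilpotent_iff_le_nilradical (IsNoetherian.noetherian _)).mpr fun x hx => ?_
    have h0 : i.appTop x = 0 := hx
    have hempty : Z'.basicOpen x = ⊥ := by
      refine eq_bot_iff.mpr fun z hz => ?_
      obtain ⟨y, rfl⟩ := i.surjective z
      have : y ∈ i ⁻¹ᵁ (Z'.basicOpen x) := hz
      rw [Scheme.preimage_basicOpen_top, h0, Scheme.basicOpen_zero] at this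
      exact this
    exact
      mem_nilradical.mpr ((Scheme.isNilpotent_iff_basicOpen_eq_bot (X := Z') x).mpr hempty)
  have e1 : d ≫ γ = β ≫ i.appTop := by
    refine Spec.map_injective ((cancel_mono hV.fromSpec).1 ?_)
    rw [Spec.map_comp, Spec.map_comp, hγ, hβ]
    simp only [Category.assoc]
    rw [hbV, w, ← Scheme.isoSpec_inv_naturality_assoc]
  algebraize [d.hom, β.hom]
  letI : Algebra Γ(S, V) Γ(Z, ⊤) := (i.appTop.hom.comp β.hom).toAlgebra
  let g : Γ(Z', ⊤) →ₐ[Γ(S, V)] Γ(Z, ⊤) := { i.appTop.hom with commutes' := fun _ => rfl }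
  let f : D →ₐ[Γ(S, V)] Γ(Z, ⊤) := { γ.hom with commutes' := fun r => congrArg (fun k => k.hom r) e1 }
  haveI : Algebra.FormallySmooth Γ(S, V) D := hd.formallySmooth
  let l := Algebra.FormallySmooth.liftOfSurjective f g hsurj hnil
  refine ⟨Z'.isoSpec.hom ≫ Spec.map (CommRingCat.ofHom l.toRingHom), ?_, ?_⟩
  · rw [← Scheme.isoSpec_hom_naturality_assoc, ← Spec.map_comp,
      show CommRingCat.ofHom l.toRingHom ≫ i.appTop = γ from CommRingCat.hom_ext (RingHom.ext fun x =>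
        Algebra.FormallySmooth.liftOfSurjective_apply f g hsurj hnil x), hγ, Iso.hom_inv_id_assoc]
  · rw [Category.assoc, ← Spec.map_comp_assoc,
      show d ≫ CommRingCat.ofHom l.toRingHom = β from CommRingCat.hom_ext (RingHom.ext fun x => l.commutes x),
      hβ, Category.assoc, Iso.hom_inv_id_assoc, hbV]

end Groth.Agent.FormalH7
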